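import Groth.Agent.CechCmp.Sys
import Mathlib.Data.Fintype.Card
import Mathlib.RingTheory.Noetherian.Defs

/-!
# Morphisms of systems, long exact sequences and vanishing above the number of indices
-/

universe u

namespace Groth.Agent.CechCmp

open Finset

variable {R : Type u} [CommRing R] {ι : Type u} [DecidableEq ι]

namespace Sys

/-- A morphism of systems, natural on nonempty sets. -/
structure Hom (S T : Sys R ι) where
  /-- The components. -/
  app : ∀ s, S.obj s →ₗ[R] T.obj s
  nat : ∀ {s t : Finset ι} (h : s ⊆ t) (x : S.obj s), s.Nonempty →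
    app t (S.res h x) = T.res h (app s x)

variable {S G Q : Sys R ι}

/-- The map on cochains. -/
def Hom.mapC (f : Hom S G) (p : ℕ) : S.C p →ₗ[R] G.C p :=
  LinearMap.pi fun σ => f.app _ ∘ₗ LinearMap.proj σ

lemma Hom.mapC_apply (f : Hom S G) (p : ℕ) (c : S.C p) (σ : Fin p → ι) :
    f.mapC p c σ = f.app _ (c σ) := rfl

lemma Hom.mapC_d (f : Hom S G) (p : ℕ) (c : S.C (p + 1)) :
    f.mapC (p + 2) (S.d (p + 1) c) = G.d (p + 1) (f.mapC (p + 1) c) := by
  funext σ
  rw [f.mapC_apply, d_apply, d_apply, map_sum]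
  refine Finset.sum_congr rfl fun k _ => ?_
  rw [map_smul, f.nat _ _ ⟨_, mem_img _ 0⟩, f.mapC_apply]

/-- Exactness on nonempty sets. -/
structure SES (f : Hom S G) (g : Hom G Q) : Prop where
  inj : ∀ s : Finset ι, s.Nonempty → Function.Injective (f.app s)
  comp : ∀ s : Finset ι, s.Nonempty → ∀ x, g.app s (f.app s x) = 0
  exact : ∀ s : Finset ι, s.Nonempty → ∀ y, g.app s y = 0 → ∃ x, f.app s x = y
  surj : ∀ s : Finset ι, s.Nonempty → Function.Surjective (g.app s)

variable {f : Hom S G} {g : Hom G Q}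

lemma SES.injective_mapC (h : SES f g) (p : ℕ) : Function.Injective (f.mapC (p + 1)) :=
  fun _ _ e => funext fun σ => h.inj _ ⟨_, mem_img σ 0⟩ (congrFun e σ)

lemma SES.mapC_comp (h : SES f g) (p : ℕ) (c : S.C (p + 1)) :
    g.mapC (p + 1) (f.mapC (p + 1) c) = 0 := funext fun σ => h.comp _ ⟨_, mem_img σ 0⟩ _

lemma SES.exact_mapC (h : SES f g) (p : ℕ) (c : G.C (p + 1)) (e : g.mapC (p + 1) c = 0) :
    ∃ c', f.mapC (p + 1) c' = c := by
  choose a ha using fun σ : Fin (p + 1) → ι => h.exact _ ⟨_, mem_img σ 0⟩ (c σ) (congrFun e σ)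
  exact ⟨a, funext ha⟩

lemma SES.surjective_mapC (h : SES f g) (p : ℕ) : Function.Surjective (g.mapC (p + 1)) := fun c => by
  choose a ha using fun σ : Fin (p + 1) → ι => h.surj _ ⟨_, mem_img σ 0⟩ (c σ)
  exact ⟨a, funext ha⟩

/-- The map on cocycles. -/
def Hom.mapZ (f : Hom S G) (p : ℕ) : S.Z p →ₗ[R] G.Z p :=
  LinearMap.codRestrict _ (f.mapC (p + 1) ∘ₗ (S.Z p).subtype) fun z => LinearMap.mem_ker.2 (by
    rw [LinearMap.comp_apply, ← f.mapC_d, Submodule.subtype_apply, LinearMap.mem_ker.1 z.2, map_zero])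

lemma Hom.mapB (f : Hom S G) : ∀ (p : ℕ) (c : S.C (p + 1)), c ∈ S.B p → f.mapC (p + 1) c ∈ G.B p
  | 0, c, hc => by
    change c ∈ (⊥ : Submodule R _) at hc
    rw [Submodule.mem_bot] at hc
    rw [hc, map_zero]
    exact zero_mem _
  | p + 1, _, ⟨b, hb⟩ => ⟨f.mapC (p + 1) b, by rw [← f.mapC_d, hb]⟩

/-- The map on cohomology. -/
def Hom.mapH (f : Hom S G) (p : ℕ) : S.H p →ₗ[R] G.H p :=
  Submodule.liftQ _ (G.cls p ∘ₗ f.mapZ p) fun z hz =>
    LinearMap.mem_ker.2 ((G.cls_eq_zero_iff (f.mapZ p z)).2 (f.mapB p _ hz))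

lemma Hom.mapH_cls (f : Hom S G) (p : ℕ) (z : S.Z p) : f.mapH p (S.cls p z) = G.cls p (f.mapZ p z) :=
  rfl

/-- Vanishing in the middle of the long exact sequence. -/
theorem SES.subsingleton_left (h : SES f g) (p : ℕ) [Subsingleton (Q.H p)]
    [Subsingleton (G.H (p + 1))] : Subsingleton (S.H (p + 1)) := by
  refine subsingleton_of_forall_eq 0 fun x => ?_
  obtain ⟨a, rfl⟩ := Submodule.mkQ_surjective _ x
  obtain ⟨b, hb⟩ := (G.cls_eq_zero_iff (f.mapZ (p + 1) a)).1 (Subsingleton.elim _ 0)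
  change G.d (p + 1) b = f.mapC (p + 2) a at hb
  have hgb : g.mapC (p + 1) b ∈ Q.Z p := LinearMap.mem_ker.2 (by
    rw [← g.mapC_d, hb, h.mapC_comp])
  have hB := (Q.cls_eq_zero_iff ⟨_, hgb⟩).1 (Subsingleton.elim _ 0)
  refine (S.cls_eq_zero_iff a).2 ?_
  obtain ⟨c, hc⟩ : ∃ c : G.C (p + 1), g.mapC (p + 1) c = g.mapC (p + 1) b ∧ G.d (p + 1) c = 0 := by
    cases p with
    | zero => exact ⟨0, by rw [map_zero]; exact (Submodule.mem_bot R).1 hB ▸ rfl, map_zero _⟩
    | succ q =>
      obtain ⟨w, hw⟩ := hB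
      obtain ⟨w', rfl⟩ := h.surjective_mapC q w
      exact ⟨G.d (q + 1) w', by rw [g.mapC_d, hw], d_d _ G _⟩
  obtain ⟨c', hc'⟩ := h.exact_mapC p (b - c) (by rw [map_sub, hc.1, sub_self])
  refine ⟨c', h.injective_mapC (p + 1) ?_⟩
  rw [f.mapC_d, hc', map_sub, hc.2, sub_zero, hb]

/-- Vanishing on the right of the long exact sequence. -/
theorem SES.subsingleton_right (h : SES f g) (p : ℕ) [Subsingleton (G.H p)]
    [Subsingleton (S.H (p + 1))] : Subsingleton (Q.H p) := by
  refine subsingleton_of_forall_eq 0 fun x => ?_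
  obtain ⟨z, rfl⟩ := Submodule.mkQ_surjective _ x
  obtain ⟨b, hb⟩ := h.surjective_mapC p (z : Q.C (p + 1))
  obtain ⟨a, ha⟩ := h.exact_mapC (p + 1) (G.d (p + 1) b) (by
    rw [g.mapC_d, hb]; exact LinearMap.mem_ker.1 z.2)
  have haz : a ∈ S.Z (p + 1) := LinearMap.mem_ker.2 (h.injective_mapC (p + 2) (by
    rw [f.mapC_d, ha, d_d, map_zero]))
  obtain ⟨c, hc⟩ := (S.cls_eq_zero_iff ⟨a, haz⟩).1 (Subsingleton.elim _ 0)
  change S.d (p + 1) c = a at hc
  have hcyc : b - f.mapC (p + 1) c ∈ G.Z p := LinearMap.mem_ker.2 (by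
    rw [map_sub, ← f.mapC_d, hc, ha, sub_self])
  have hB := g.mapB p _ ((G.cls_eq_zero_iff ⟨_, hcyc⟩).1 (Subsingleton.elim _ 0))
  rw [map_sub, h.mapC_comp, hb, sub_zero] at hB
  exact (Q.cls_eq_zero_iff z).2 hB

/-- Finiteness in the long exact sequence. -/
theorem SES.finite_right [IsNoetherianRing R] (h : SES f g) (p : ℕ) [Module.Finite R (G.H p)]
    [Module.Finite R (S.H (p + 1))] : Module.Finite R (Q.H p) := by
  have hex : ∀ z : Q.Z p, ∃ a : S.Z (p + 1), ∃ b : G.C (p + 1),
      g.mapC (p + 1) b = z ∧ f.mapC (p + 2) a = G.d (p + 1) b := by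
    intro z
    obtain ⟨b, hb⟩ := h.surjective_mapC p (z : Q.C (p + 1))
    obtain ⟨a, ha⟩ := h.exact_mapC (p + 1) (G.d (p + 1) b) (by
      rw [g.mapC_d, hb]; exact LinearMap.mem_ker.1 z.2)
    refine ⟨⟨a, LinearMap.mem_ker.2 (h.injective_mapC (p + 2) ?_)⟩, b, hb, ha⟩
    rw [f.mapC_d, ha, d_d, map_zero]
  have huniq : ∀ (a a' : S.Z (p + 1)) (b b' : G.C (p + 1)), g.mapC (p + 1) b = g.mapC (p + 1) b' →
      f.mapC (p + 2) a = G.d (p + 1) b → f.mapC (p + 2) a' = G.d (p + 1) b' →
      S.cls (p + 1) a = S.cls (p + 1) a' := by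
    intro a a' b b' hbb ha ha'
    rw [← sub_eq_zero, ← map_sub, cls_eq_zero_iff]
    obtain ⟨c, hc⟩ := h.exact_mapC p (b - b') (by rw [map_sub, hbb, sub_self])
    refine ⟨c, h.injective_mapC (p + 1) ?_⟩
    rw [f.mapC_d, hc, map_sub, ← ha, ← ha', ← map_sub]
    rfl
  choose da db hdb hda using hex
  let δ : Q.Z p →ₗ[R] S.H (p + 1) :=
    { toFun := fun z => S.cls (p + 1) (da z)
      map_add' := fun z z' => by
        rw [← map_add]
        refine huniq _ _ (db (z + z')) (db z + db z') ?_ (hda _) ?_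
        · rw [hdb, map_add, hdb, hdb]; rfl
        · rw [map_add, ← hda, ← hda, ← map_add]; rfl
      map_smul' := fun r z => by
        rw [RingHom.id_apply, ← map_smul]
        refine huniq _ _ (db (r • z)) (r • db z) ?_ (hda _) ?_
        · rw [hdb, map_smul, hdb]; rfl
        · rw [map_smul, ← hda, ← map_smul]; rfl }
  haveI : IsNoetherian R (S.H (p + 1)) := isNoetherian_of_isNoetherianRing_of_finite R _
  -- the kernel of `δ` maps into the image of `G.H p`
  let M : Submodule R (Q.H p) := LinearMap.range (g.mapH p)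
  have hker : ∀ z : Q.Z p, δ z = 0 → Q.cls p z ∈ M := by
    intro z hz
    obtain ⟨c, hc⟩ := (S.cls_eq_zero_iff _).1 hz
    have hcyc : G.d (p + 1) (db z - f.mapC (p + 1) c) = 0 := by
      rw [map_sub, ← hda, ← f.mapC_d, sub_eq_zero]; exact congrArg _ hc.symm
    refine ⟨G.cls p ⟨_, LinearMap.mem_ker.2 hcyc⟩, ?_⟩
    rw [g.mapH_cls]
    congr 1
    refine Subtype.ext ?_
    change g.mapC (p + 1) (db z - f.mapC (p + 1) c) = z
    rw [map_sub, h.mapC_comp, hdb, sub_zero]
  haveI hM : Module.Finite R M := Module.Finite.range _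
  haveI hM2 : IsNoetherian R M := isNoetherian_of_isNoetherianRing_of_finite R M
  obtain ⟨r, v, hv⟩ := Submodule.fg_iff_exists_fin_generating_family.1
    ((inferInstance : IsNoetherian R (S.H (p + 1))).noetherian (LinearMap.range δ))
  have hv' : ∀ i, ∃ z, δ z = v i := fun i => by
    have : v i ∈ LinearMap.range δ := hv ▸ Submodule.subset_span ⟨i, rfl⟩
    exact this
  choose w hw using hv'
  let L : Submodule R (Q.H p) := M ⊔ Submodule.span R (Set.range fun i => Q.cls p (w i))
  have htop : L = ⊤ := by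
    rw [Submodule.eq_top_iff']
    intro x
    obtain ⟨z, rfl⟩ := Submodule.mkQ_surjective _ x
    have hz : δ z ∈ Submodule.span R (Set.range v) := hv ▸ LinearMap.mem_range_self δ z
    obtain ⟨co, hco⟩ := (Submodule.mem_span_range_iff_exists_fun R).1 hz
    have h0 : δ (z - ∑ i, co i • w i) = 0 := by
      rw [map_sub, map_sum, ← hco, sub_eq_zero]
      exact Finset.sum_congr rfl fun i _ => by rw [map_smul, hw]
    have h1 := hker _ h0
    rw [map_sub, map_sum] at h1
    have h2 : ∑ i, Q.cls p (co i • w i) ∈ L := Submodule.sum_mem _ fun i _ => by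
      rw [map_smul]
      exact Submodule.smul_mem _ _ (Submodule.mem_sup_right (Submodule.subset_span ⟨i, rfl⟩))
    have := Submodule.add_mem L (show _ ∈ L from Submodule.mem_sup_left h1) h2
    rwa [sub_add_cancel] at this
  refine ⟨htop ▸ Submodule.FG.sup ?_ (Submodule.fg_span (Set.finite_range _))⟩
  exact Module.Finite.iff_fg.1 hM

variable (S)

/-- Families indexed by the sets containing a given one: an acyclic system containing `S`. -/
abbrev cofree : Sys R ι where
  obj s := ModuleCat.of R (∀ t : {t : Finset ι // s ⊆ t}, S.obj t.1)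
  res h := LinearMap.pi fun t => LinearMap.proj (⟨t.1, h.trans t.2⟩ : {t : Finset ι // _ ⊆ t})
  res_refl _ _ := rfl
  res_res _ _ _ := rfl

/-- The embedding into the cofree system. -/
def toCofree : Hom S S.cofree where
  app s := LinearMap.pi fun t => S.res t.2
  nat h x _ := funext fun t => S.res_res h t.2 x

/-- The quotient of the cofree system by `S`. -/
def cofreeQuot : Sys R ι where
  obj s := ModuleCat.of R (S.cofree.obj s ⧸ LinearMap.range (S.toCofree.app s))
  res {s t} h := Submodule.mapQ _ _ (S.cofree.res h) (by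
    rintro _ ⟨x, rfl⟩
    exact ⟨S.res h x, funext fun v => (S.res_res h v.2 x)⟩)
  res_refl s x := by
    obtain ⟨y, rfl⟩ := Submodule.mkQ_surjective _ x
    rfl
  res_res h h' x := by
    obtain ⟨y, rfl⟩ := Submodule.mkQ_surjective _ x
    rfl

/-- The projection onto the quotient. -/
def toCofreeQuot : Hom S.cofree S.cofreeQuot where
  app _ := Submodule.mkQ _
  nat _ _ _ := rfl

lemma cofree_ses : SES S.toCofree S.toCofreeQuot where
  inj s _ x y e := by
    have := congrFun e ⟨s, subset_rfl⟩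
    change S.res _ x = S.res _ y at this
    rwa [S.res_refl, S.res_refl] at this
  comp s _ x := (Submodule.Quotient.mk_eq_zero _).2 ⟨x, rfl⟩
  exact s _ y e := (Submodule.Quotient.mk_eq_zero _).1 e
  surj s _ := Submodule.mkQ_surjective _

open Classical in
/-- The cofree system is contractible. -/
noncomputable def cofreeHomotopy [Nonempty ι] : S.cofree.Homotopy fun _ => LinearMap.id :=
  let c : Finset ι → ι := fun t => if h : t.Nonempty then h.choose else Classical.arbitrary ι
  have hc : ∀ t : Finset ι, t.Nonempty → c t ∈ t := fun t h => by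
    simp only [c, dif_pos h]; exact h.choose_spec
  { h := fun s => LinearMap.pi fun t => if ht : c t.1 ∈ t.1 then
        (LinearMap.proj (⟨t.1, insert_subset ht t.2⟩ : {v : Finset ι // insert (c t.1) s ⊆ v}) :
          S.cofree.obj (insert (c t.1) s) →ₗ[R] S.obj t.1) ∘ₗ LinearMap.proj (c t.1)
      else 0
    nat := fun {s t} hst y hs => funext fun v => by
      have : c v.1 ∈ v.1 := hc _ ((hs.mono hst).mono v.2)
      simp only [LinearMap.pi_apply, LinearMap.proj_apply, LinearMap.comp_apply, dif_pos this]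
    diag := fun s x hs => funext fun v => by
      have : c v.1 ∈ v.1 := hc _ (hs.mono v.2)
      simp only [LinearMap.pi_apply, dif_pos this]
      rfl }

/-- Cohomology vanishes above the size of the sets carrying nonzero modules. -/
theorem subsingleton_H_of_card [Nonempty ι] (m : ℕ) :
    ∀ (S : Sys R ι), (∀ s : Finset ι, m < s.card → Subsingleton (S.obj s)) → ∀ p, m ≤ p →
      Subsingleton (S.H p) := by
  induction m with
  | zero =>
    intro S hS p _
    haveI : ∀ σ : Fin (p + 1) → ι, Subsingleton (S.obj (img σ)) :=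
      fun σ => hS _ (Finset.card_pos.2 ⟨_, mem_img σ 0⟩)
    exact (Submodule.mkQ_surjective ((S.B p).comap (S.Z p).subtype)).subsingleton
  | succ m ih =>
    intro S hS p hp
    obtain ⟨q, rfl⟩ : ∃ q, p = q + 1 := ⟨p - 1, by omega⟩
    haveI : Subsingleton (S.cofree.H (q + 1)) := subsingleton_H_of_homotopy S.cofreeHomotopy q
    have hQ : ∀ s : Finset ι, m < s.card → Subsingleton (S.cofreeQuot.obj s) := by
      intro s hs
      refine subsingleton_of_forall_eq 0 fun x => ?_
      obtain ⟨y, rfl⟩ := Submodule.mkQ_surjective _ x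
      refine (Submodule.Quotient.mk_eq_zero _).2 ⟨y ⟨s, subset_rfl⟩, funext fun t => ?_⟩
      by_cases ht : t.1 = s
      · obtain ⟨t, ht'⟩ := t
        dsimp only at ht
        change S.res ht' (y ⟨s, subset_rfl⟩) = y ⟨t, ht'⟩
        subst ht
        exact S.res_refl _ _
      · haveI := hS t.1 (by
          have := Finset.card_lt_card (t.2.ssubset_of_ne (Ne.symm ht)); omega)
        exact Subsingleton.elim _ _
    haveI := ih S.cofreeQuot hQ q (by omega)
    exact S.cofree_ses.subsingleton_left q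

/-- Cohomology vanishes from the number of indices on. -/
theorem subsingleton_H_of_fintype_card_le [Fintype ι] [Nonempty ι] (S : Sys R ι) {p : ℕ}
    (hp : Fintype.card ι ≤ p) : Subsingleton (S.H p) :=
  subsingleton_H_of_card (Fintype.card ι) S
    (fun s hs => absurd (Finset.card_le_univ s) (not_le.2 hs)) p hp

end Sys

end Groth.Agent.CechCmp
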