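import Groth.Agent.CechCmp.Scheme
import Groth.Agent.CechCmp.SysHom

/-!
# Naturality of the comparison between cohomology and Čech cohomology

The connecting maps of the Godement sequences on both sides give a comparison which commutes with every
morphism of sheaves with an action.
-/

universe u

open CategoryTheory Limits Opposite TopologicalSpace Abelian
open scoped Groth.Agent.CohVanish

namespace Groth.Agent.CechCmp

open Groth.Agent.CohVanish

variable {R : Type u} [CommRing R] {X : TopCat.{u}} {ι : Type u} [DecidableEq ι] {U : ι → Opens X}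

namespace RSh

variable {F G : RSh R X}

/-- A morphism on the systems of sections. -/
noncomputable def Hom.sysHom (φ : Hom F G) (U : ι → Opens X) : Sys.Hom (F.sys U) (G.sys U) where
  app s := φ.app (meetOpen U s)
  nat _ x _ := φ.app_res _ x

/-- The action of a scalar, as a morphism. -/
noncomputable def actHom (F : RSh R X) (r : R) : Hom F F :=
  ⟨F.act r, fun r' => by rw [← End.mul_def, ← End.mul_def, ← map_mul, ← map_mul, mul_comm]⟩

/-- A morphism on families of germs. -/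
noncomputable def godMap (φ : Hom F G) : F.god.F ⟶ G.god.F :=
  ⟨{ app := fun W => AddCommGrpCat.ofHom
      { toFun := fun s x => (TopCat.Presheaf.stalkFunctor AddCommGrpCat.{u} x.1).map φ.hom.hom (s x)
        map_zero' := funext fun x => map_zero _
        map_add' := fun s t => funext fun x => map_add _ _ _ } }⟩

lemma toGod_godMap (φ : Hom F G) : F.toGod ≫ godMap φ = φ.hom ≫ G.toGod := by
  refine abSh_hom_ext fun W s => funext fun x => ?_
  exact TopCat.Presheaf.stalkFunctor_map_germ_apply W.unop x.1 x.2 φ.hom.hom s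

lemma stalk_comm (φ : Hom F G) (x : X) (r : R) (t : F.st x) :
    (TopCat.Presheaf.stalkFunctor AddCommGrpCat.{u} x).map φ.hom.hom (F.actStalk x r t) =
      G.actStalk x r ((TopCat.Presheaf.stalkFunctor AddCommGrpCat.{u} x).map φ.hom.hom t) := by
  obtain ⟨W, hx, v, rfl⟩ := TopCat.Presheaf.exists_germ_eq F.F.obj (x := x) t
  change (TopCat.Presheaf.stalkFunctor AddCommGrpCat.{u} x).map φ.hom.hom
      ((TopCat.Presheaf.stalkFunctor AddCommGrpCat.{u} x).map (F.act r).hom _) =
    (TopCat.Presheaf.stalkFunctor AddCommGrpCat.{u} x).map (G.act r).hom _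
  rw [TopCat.Presheaf.stalkFunctor_map_germ_apply, TopCat.Presheaf.stalkFunctor_map_germ_apply,
    TopCat.Presheaf.stalkFunctor_map_germ_apply]
  erw [TopCat.Presheaf.stalkFunctor_map_germ_apply]
  exact congrArg (TopCat.Presheaf.germ G.F.obj W x hx) (ConcreteCategory.congr_hom
    (congrArg (fun a : F.F ⟶ G.F => a.hom.app (op _)) (φ.comm r)) v)

/-- A morphism on Godement sheaves. -/
noncomputable def Hom.god (φ : Hom F G) : Hom F.god G.god :=
  ⟨godMap φ, fun r => abSh_hom_ext fun _ s => funext fun x => stalk_comm φ x.1 r (s x)⟩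

/-- A morphism on the quotients of the Godement embeddings. -/
noncomputable def Hom.godQuot (φ : Hom F G) : Hom F.godQuot G.godQuot :=
  ⟨cokernel.map F.toGod G.toGod φ.hom (godMap φ) (toGod_godMap φ), fun r => by
    apply (cancel_epi (cokernel.π F.toGod)).1
    have e1 : cokernel.π F.toGod ≫ cokernel.map F.toGod G.toGod φ.hom (godMap φ) (toGod_godMap φ) =
        godMap φ ≫ cokernel.π G.toGod := cokernel.π_desc _ _ _
    refine (Category.assoc _ _ _).symm.trans
      ((congrArg (· ≫ _) (F.projHom.comm r).symm).trans ?_)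
    refine ((Category.assoc _ _ _).trans (congrArg _ e1)).trans ?_
    refine ((Category.assoc _ _ _).symm.trans (congrArg (· ≫ _) (φ.god.comm r))).trans ?_
    refine ((Category.assoc _ _ _).trans (congrArg _ (G.projHom.comm r))).trans ?_
    exact (Category.assoc _ _ _).symm.trans
      ((congrArg (· ≫ G.godQuot.act r) e1.symm).trans (Category.assoc _ _ _))⟩

/-- The morphism of Godement sequences. -/
noncomputable def Hom.godSES (φ : Hom F G) : F.godSES ⟶ G.godSES where
  τ₁ := φ.hom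
  τ₂ := godMap φ
  τ₃ := φ.godQuot.hom
  comm₁₂ := (toGod_godMap φ).symm
  comm₂₃ := (cokernel.π_desc _ _ _).symm

lemma incHom_natural (φ : Hom F G) (p : ℕ) (c : (F.sys U).C p) :
    φ.god.mapC p (F.incHom.mapC p c) = G.incHom.mapC p (φ.mapC p c) := funext fun σ =>
  ConcreteCategory.congr_hom (congrArg (fun a : F.F ⟶ G.god.F => a.hom.app _) (toGod_godMap φ)) (c σ)

lemma projHom_natural (φ : Hom F G) (p : ℕ) (c : (F.god.sys U).C p) :
    G.projHom.mapC p (φ.god.mapC p c) = φ.godQuot.mapC p (F.projHom.mapC p c) := funext fun σ =>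
  (ConcreteCategory.congr_hom (congrArg (fun a : F.god.F ⟶ G.godQuot.F => a.hom.app _)
    (φ.godSES.comm₂₃.symm)) (c σ)).symm

lemma exists_lift (hF : F.Acyc U) (p : ℕ) (z : (F.godQuot.sys U).Z p) :
    ∃ (a : (F.sys U).Z (p + 1)) (b : (F.god.sys U).C (p + 1)),
      F.projHom.mapC (p + 1) b = z ∧ F.incHom.mapC (p + 2) a = (F.god.sys U).d (p + 1) b := by
  obtain ⟨b, hb⟩ := proj_surjective hF p (z : (F.godQuot.sys U).C (p + 1))
  have h0 : F.projHom.mapC (p + 2) ((F.god.sys U).d (p + 1) b) = 0 := by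
    rw [Hom.mapC_d, hb]; exact LinearMap.mem_ker.1 z.2
  obtain ⟨a, ha⟩ := exact_cochains F (p + 2) _ h0
  refine ⟨⟨a, LinearMap.mem_ker.2 (incHom_injective F (p + 3) ?_)⟩, b, hb, ha⟩
  rw [Hom.mapC_d, ha, Sys.d_d, map_zero]

lemma lift_unique {p : ℕ} (a a' : (F.sys U).Z (p + 1)) (b b' : (F.god.sys U).C (p + 1))
    (hbb : F.projHom.mapC (p + 1) b = F.projHom.mapC (p + 1) b')
    (ha : F.incHom.mapC (p + 2) a = (F.god.sys U).d (p + 1) b)
    (ha' : F.incHom.mapC (p + 2) a' = (F.god.sys U).d (p + 1) b') :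
    (F.sys U).cls (p + 1) a = (F.sys U).cls (p + 1) a' := by
  rw [← sub_eq_zero, ← map_sub, Sys.cls_eq_zero_iff]
  obtain ⟨c, hc⟩ := exact_cochains F (p + 1) (b - b') (by rw [map_sub, hbb, sub_self])
  refine ⟨c, incHom_injective F (p + 2) ?_⟩
  rw [Hom.mapC_d, hc, map_sub, ← ha, ← ha', ← map_sub]
  rfl

/-- The connecting map on cocycles. -/
noncomputable def cechDeltaZ (hF : F.Acyc U) (p : ℕ) : (F.godQuot.sys U).Z p →ₗ[R] (F.sys U).H (p + 1) where
  toFun z := (F.sys U).cls (p + 1) (exists_lift hF p z).choose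
  map_add' z z' := by
    obtain ⟨hb, ha⟩ := (exists_lift hF p z).choose_spec.choose_spec
    obtain ⟨hb', ha'⟩ := (exists_lift hF p z').choose_spec.choose_spec
    obtain ⟨hb'', ha''⟩ := (exists_lift hF p (z + z')).choose_spec.choose_spec
    rw [← map_add]
    refine lift_unique _ _ _
      ((exists_lift hF p z).choose_spec.choose + (exists_lift hF p z').choose_spec.choose) ?_ ha'' ?_
    · rw [hb'', map_add, hb, hb']; rfl
    · rw [map_add, ← ha, ← ha', ← map_add]; rfl
  map_smul' r z := by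
    obtain ⟨hb, ha⟩ := (exists_lift hF p z).choose_spec.choose_spec
    obtain ⟨hb'', ha''⟩ := (exists_lift hF p (r • z)).choose_spec.choose_spec
    rw [RingHom.id_apply, ← map_smul]
    refine lift_unique _ _ _ (r • (exists_lift hF p z).choose_spec.choose) ?_ ha'' ?_
    · rw [hb'', map_smul, hb]; rfl
    · rw [map_smul, ← ha, ← map_smul]; rfl

lemma cechDeltaZ_eq (hF : F.Acyc U) (p : ℕ) (z : (F.godQuot.sys U).Z p) (a : (F.sys U).Z (p + 1))
    (b : (F.god.sys U).C (p + 1)) (hb : F.projHom.mapC (p + 1) b = z)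
    (ha : F.incHom.mapC (p + 2) a = (F.god.sys U).d (p + 1) b) :
    cechDeltaZ hF p z = (F.sys U).cls (p + 1) a :=
  lift_unique _ a _ b ((exists_lift hF p z).choose_spec.choose_spec.1.trans hb.symm)
    (exists_lift hF p z).choose_spec.choose_spec.2 ha

lemma cechDeltaZ_eq_zero (hF : F.Acyc U) : ∀ (p : ℕ) (z : (F.godQuot.sys U).Z p),
    (z : (F.godQuot.sys U).C (p + 1)) ∈ (F.godQuot.sys U).B p → cechDeltaZ hF p z = 0
  | 0, z, hz => by
    rw [cechDeltaZ_eq hF 0 z 0 0 (by rw [map_zero]; exact ((Submodule.mem_bot R).1 hz).symm)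
      (by rw [map_zero]; exact map_zero _)]
    exact map_zero _
  | q + 1, z, ⟨w, hw⟩ => by
    obtain ⟨w', rfl⟩ := proj_surjective hF q w
    rw [cechDeltaZ_eq hF (q + 1) z 0 ((F.god.sys U).d (q + 1) w') (by rw [Hom.mapC_d, hw])
      (by rw [Sys.d_d]; exact map_zero _)]
    exact map_zero _

/-- The connecting map. -/
noncomputable def cechDelta (hF : F.Acyc U) (p : ℕ) : (F.godQuot.sys U).H p →ₗ[R] (F.sys U).H (p + 1) :=
  Submodule.liftQ _ (cechDeltaZ hF p) fun z hz => LinearMap.mem_ker.2 (cechDeltaZ_eq_zero hF p z hz)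

lemma cechDelta_cls (hF : F.Acyc U) (p : ℕ) (z : (F.godQuot.sys U).Z p) :
    cechDelta hF p ((F.godQuot.sys U).cls p z) = cechDeltaZ hF p z := rfl

lemma cechDelta_surjective (hcov : ⨆ i, U i = ⊤) (hF : F.Acyc U) (p : ℕ) :
    Function.Surjective (cechDelta hF p) := fun x => by
  obtain ⟨a, rfl⟩ := Submodule.mkQ_surjective _ x
  have hz : (F.god.sys U).d (p + 2) (F.incHom.mapC (p + 2) a) = 0 := by
    rw [← Hom.mapC_d, LinearMap.mem_ker.1 a.2, map_zero]
  obtain ⟨b, hb⟩ := Sys.mem_B_of_homotopy (F.godHomotopy hcov) p ⟨_, LinearMap.mem_ker.2 hz⟩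
  exact ⟨(F.godQuot.sys U).cls p ⟨F.projHom.mapC (p + 1) b, LinearMap.mem_ker.2 (by
    rw [← Hom.mapC_d, hb]; exact proj_inc F _ _)⟩, cechDeltaZ_eq hF p _ a b rfl hb.symm⟩

lemma ker_zero (hcov : ⨆ i, U i = ⊤) (hF : F.Acyc U) (x : EU F.godQuot.F (⊤ : Opens X) 0) :
    eDelta F.godSES_shortExact ⊤ 0 x = 0 ↔ cechDelta hF 0 (F.godQuot.cmp0 hcov x) = 0 := by
  rw [cmp0_apply, cechDelta_cls, eDelta_zero_eq_zero]
  set q := eu0 (⊤ : Opens X) F.godQuot.F x with hq
  constructor
  · rintro ⟨t, ht⟩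
    rw [cechDeltaZ_eq hF 0 _ 0 (F.god.aug U t : (F.god.sys U).C 1)]
    · exact map_zero _
    · funext σ
      change F.projHom.app _ (F.god.res le_top t) = F.godQuot.res le_top q
      rw [Hom.app_res, ← show F.projHom.app ⊤ t = q from ht]
    · rw [LinearMap.mem_ker.1 (F.god.aug U t).2]; exact map_zero _
  · intro h
    obtain ⟨a, b, hb, ha⟩ := exists_lift hF 0 (F.godQuot.aug U q)
    rw [cechDeltaZ_eq hF 0 _ a b hb ha] at h
    obtain ⟨c, hc⟩ := (Sys.cls_eq_zero_iff _ _).1 h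
    obtain ⟨t, ht⟩ := (F.god.aug_bijective hcov).2 ⟨b - F.incHom.mapC 1 c, LinearMap.mem_ker.2 (by
      rw [map_sub, ← ha, ← Hom.mapC_d, sub_eq_zero]; exact congrArg _ hc.symm)⟩
    refine ⟨t, (F.godQuot.aug_bijective hcov).1 (Subtype.ext (funext fun σ => ?_))⟩
    change F.godQuot.res le_top (F.projHom.app ⊤ t) = F.godQuot.res le_top q
    rw [← Hom.app_res, show F.god.res le_top t = (b - F.incHom.mapC 1 c) σ from
      congrFun (congrArg Subtype.val ht) σ]
    change F.projHom.mapC 1 (b - F.incHom.mapC 1 c) σ = _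
    rw [map_sub, hb, proj_inc F 1 c, sub_zero]
    rfl

lemma ker_succ (hcov : ⨆ i, U i = ⊤) (hF : F.Acyc U) (q : ℕ)
    (e : EU F.godQuot.F (⊤ : Opens X) (q + 1) ≃+ (F.godQuot.sys U).H (q + 1))
    (x : EU F.godQuot.F (⊤ : Opens X) (q + 1)) :
    eDelta F.godSES_shortExact ⊤ (q + 1) x = 0 ↔ cechDelta hF (q + 1) (e x) = 0 := by
  have : Subsingleton (EU F.godSES.X₂ (⊤ : Opens X) (q + 1)) := subsingleton_of_flasque F.god.F _ q
  rw [(injective_iff_map_eq_zero' (eDelta F.godSES_shortExact ⊤ (q + 1))).1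
    (eDelta_injective F.godSES_shortExact ⊤ (q + 1)) x]
  refine ⟨fun h => by rw [h, map_zero, map_zero], fun h => ?_⟩
  apply e.injective
  rw [map_zero]
  obtain ⟨z, hz⟩ := Submodule.mkQ_surjective _ (e x)
  rw [← hz] at h ⊢
  obtain ⟨a, b, hb, ha⟩ := exists_lift hF (q + 1) z
  have h' : (F.sys U).cls (q + 2) a = 0 := (cechDeltaZ_eq hF (q + 1) z a b hb ha).symm.trans h
  obtain ⟨c, hc⟩ := (Sys.cls_eq_zero_iff _ _).1 h'
  have hcyc : (F.god.sys U).d (q + 2) (b - F.incHom.mapC (q + 2) c) = 0 := by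
    rw [map_sub, ← ha, ← Hom.mapC_d, sub_eq_zero]; exact congrArg _ hc.symm
  obtain ⟨w, hw⟩ := Sys.mem_B_of_homotopy (F.godHomotopy hcov) q ⟨_, LinearMap.mem_ker.2 hcyc⟩
  refine (Sys.cls_eq_zero_iff _ z).2 ⟨F.projHom.mapC (q + 1) w, ?_⟩
  rw [← Hom.mapC_d, hw, map_sub, hb, proj_inc F _ c, sub_zero]

/-- The natural comparison. -/
noncomputable def cmp (hcov : ⨆ i, U i = ⊤) :
    ∀ (p : ℕ) (F : RSh R X), F.Acyc U → (EU F.F (⊤ : Opens X) p ≃+ (F.sys U).H p)
  | 0, F, _ => F.cmp0 hcov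
  | 1, F, hF =>
    haveI : Subsingleton (EU F.godSES.X₂ (⊤ : Opens X) 1) := subsingleton_of_flasque F.god.F _ 0
    (exists_addEquiv_of_surjective (eDelta F.godSES_shortExact (⊤ : Opens X) 0)
      ((cechDelta hF 0).toAddMonoidHom.comp (F.godQuot.cmp0 hcov).toAddMonoidHom)
      (eDelta_surjective F.godSES_shortExact ⊤ 0)
      ((cechDelta_surjective hcov hF 0).comp (F.godQuot.cmp0 hcov).surjective)
      (ker_zero hcov hF)).choose
  | q + 2, F, hF =>
    haveI : Subsingleton (EU F.godSES.X₂ (⊤ : Opens X) (q + 2)) := subsingleton_of_flasque F.god.F _ (q + 1)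
    (exists_addEquiv_of_surjective (eDelta F.godSES_shortExact (⊤ : Opens X) (q + 1))
      ((cechDelta hF (q + 1)).toAddMonoidHom.comp (cmp hcov (q + 1) F.godQuot (acyc_godQuot hF)).toAddMonoidHom)
      (eDelta_surjective F.godSES_shortExact ⊤ (q + 1))
      ((cechDelta_surjective hcov hF (q + 1)).comp (cmp hcov (q + 1) F.godQuot (acyc_godQuot hF)).surjective)
      (ker_succ hcov hF q _)).choose

lemma cmp_eDelta (hcov : ⨆ i, U i = ⊤) (p : ℕ) (hF : F.Acyc U) (y : EU F.godQuot.F (⊤ : Opens X) p) :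
    cmp hcov (p + 1) F hF (eDelta F.godSES_shortExact ⊤ p y) =
      cechDelta hF p (cmp hcov p F.godQuot (acyc_godQuot hF) y) := by
  cases p with
  | zero =>
    have : Subsingleton (EU F.godSES.X₂ (⊤ : Opens X) 1) := subsingleton_of_flasque F.god.F _ 0
    exact (exists_addEquiv_of_surjective (eDelta F.godSES_shortExact (⊤ : Opens X) 0)
      ((cechDelta hF 0).toAddMonoidHom.comp (F.godQuot.cmp0 hcov).toAddMonoidHom)
      (eDelta_surjective F.godSES_shortExact ⊤ 0)
      ((cechDelta_surjective hcov hF 0).comp (F.godQuot.cmp0 hcov).surjective)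
      (ker_zero hcov hF)).choose_spec y
  | succ q =>
    have : Subsingleton (EU F.godSES.X₂ (⊤ : Opens X) (q + 2)) := subsingleton_of_flasque F.god.F _ (q + 1)
    exact (exists_addEquiv_of_surjective (eDelta F.godSES_shortExact (⊤ : Opens X) (q + 1))
      ((cechDelta hF (q + 1)).toAddMonoidHom.comp (cmp hcov (q + 1) F.godQuot (acyc_godQuot hF)).toAddMonoidHom)
      (eDelta_surjective F.godSES_shortExact ⊤ (q + 1))
      ((cechDelta_surjective hcov hF (q + 1)).comp (cmp hcov (q + 1) F.godQuot (acyc_godQuot hF)).surjective)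
      (ker_succ hcov hF q _)).choose_spec y

/-- **Naturality of the comparison.** -/
theorem cmp_natural (hcov : ⨆ i, U i = ⊤) :
    ∀ (p : ℕ) {F G : RSh R X} (φ : Hom F G) (hF : F.Acyc U) (hG : G.Acyc U)
      (x : EU F.F (⊤ : Opens X) p),
      cmp hcov p G hG (eMap φ.hom ⊤ p x) = (φ.sysHom U).mapH p (cmp hcov p F hF x) := by
  intro p
  induction p with
  | zero =>
    intro F G φ _ _ x
    change G.cmp0 hcov _ = (φ.sysHom U).mapH 0 (F.cmp0 hcov x)
    rw [cmp0_apply, cmp0_apply, eu0_eMap]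
    refine congrArg ((G.sys U).cls 0) (Subtype.ext (funext fun σ => ?_))
    exact (φ.app_res _ _).symm
  | succ p ih =>
    intro F G φ hF hG x
    have : Subsingleton (EU F.godSES.X₂ (⊤ : Opens X) (p + 1)) := subsingleton_of_flasque F.god.F _ p
    obtain ⟨y, rfl⟩ := eDelta_surjective F.godSES_shortExact (⊤ : Opens X) p x
    rw [show eMap φ.hom ⊤ (p + 1) (eDelta F.godSES_shortExact ⊤ p y) = _ from
      eDelta_naturality F.godSES_shortExact G.godSES_shortExact φ.godSES ⊤ p y]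
    refine (cmp_eDelta hcov p hG _).trans ?_
    rw [cmp_eDelta hcov p hF y, show eMap φ.godSES.τ₃ ⊤ p y = eMap φ.godQuot.hom ⊤ p y from rfl,
      ih φ.godQuot (acyc_godQuot hF) (acyc_godQuot hG) y]
    obtain ⟨z, hz⟩ := Submodule.mkQ_surjective _ (cmp hcov p F.godQuot (acyc_godQuot hF) y)
    rw [← hz]
    obtain ⟨a, b, hb, ha⟩ := exists_lift hF p z
    refine Eq.trans ?_ (congrArg ((φ.sysHom U).mapH (p + 1)) (cechDeltaZ_eq hF p z a b hb ha).symm)
    refine cechDeltaZ_eq hG p ((φ.godQuot.sysHom U).mapZ p z) ((φ.sysHom U).mapZ (p + 1) a)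
      (φ.god.mapC (p + 1) b) ?_ ?_
    · rw [projHom_natural, hb]; rfl
    · exact (incHom_natural φ (p + 2) (a : (F.sys U).C (p + 2))).symm.trans
        ((congrArg (φ.god.mapC (p + 2)) ha).trans (φ.god.mapC_d (p + 1) b))

lemma cmp_act (hcov : ⨆ i, U i = ⊤) (p : ℕ) (hF : F.Acyc U) (r : R) (x : EU F.F (⊤ : Opens X) p) :
    cmp hcov p F hF (eMap (F.act r) ⊤ p x) = r • cmp hcov p F hF x := by
  refine (cmp_natural hcov p (actHom F r) hF hF x).trans ?_
  obtain ⟨z, hz⟩ := Submodule.mkQ_surjective _ (cmp hcov p F hF x)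
  rw [← hz]
  rfl

end RSh

open AlgebraicGeometry

section Scheme

variable {Y : Scheme.{u}} {A : Type u} [CommRing A] (φ : A →+* Coh.Γtop Y) {κ : Type u} [DecidableEq κ]
  (V : κ → Y.Opens) (hcov : ⨆ i, V i = ⊤)
  (hV : ∀ s : Finset κ, s.Nonempty → IsAffineOpen (RSh.meetOpen V s))

/-- A morphism of modules commutes with global functions. -/
noncomputable def modHom {M N : Y.Modules} (f : M ⟶ N) : RSh.Hom (modRSh φ M) (modRSh φ N) :=
  ⟨(SheafOfModules.toSheaf Y.ringCatSheaf).map f, fun a => abSh_hom_ext fun W x => by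
    change (f.val.app W) ((Coh.smulAb M (φ a)).hom.app W x) = (Coh.smulAb N (φ a)).hom.app W (f.val.app W x)
    erw [Coh.smulAb_app, Coh.smulAb_app]
    exact map_smul (f.val.app W).hom _ _⟩

/-- The natural linear comparison for quasi-coherent modules. -/
noncomputable def hhCmp (M : Y.Modules) [M.IsQuasicoherent] (p : ℕ) :
    Coh.HH Y M p ≃+ ((modRSh φ M).sys V).H p :=
  (hEquiv (X := sp Y) (Coh.toAb M) p).trans
    (RSh.cmp hcov p (modRSh φ M) (acyc_modRSh φ M V hV))

theorem hhCmp_smul (M : Y.Modules) [M.IsQuasicoherent] (p : ℕ) (a : A) (x : Coh.HH Y M p) :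
    hhCmp φ V hcov hV M p (φ a • x) = a • hhCmp φ V hcov hV M p x := by
  change RSh.cmp hcov p (modRSh φ M) _ (hEquiv (X := sp Y) (Coh.toAb M) p
    (Sheaf.H.map (Coh.smulAb M (φ a)) p x)) = _
  rw [hEquiv_map]
  exact RSh.cmp_act hcov p _ a _

/-- **The comparison is natural in the module.** -/
theorem hhCmp_natural {M N : Y.Modules} [M.IsQuasicoherent] [N.IsQuasicoherent] (f : M ⟶ N) (p : ℕ)
    (x : Coh.HH Y M p) :
    hhCmp φ V hcov hV N p (Sheaf.H.map ((SheafOfModules.toSheaf Y.ringCatSheaf).map f) p x) =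
      ((modHom φ f).sysHom V).mapH p (hhCmp φ V hcov hV M p x) := by
  change RSh.cmp hcov p (modRSh φ N) _ (hEquiv (X := sp Y) (Coh.toAb N) p _) = _
  rw [hEquiv_map]
  exact RSh.cmp_natural hcov p (modHom φ f) _ _ _

end Scheme

end Groth.Agent.CechCmp
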