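import Groth.Agent.CechCmp.Compare
import Groth.Agent.CohVanish.Affine

/-!
# Cohomology of quasi-coherent modules as Čech cohomology
-/

universe u

open CategoryTheory Limits Opposite TopologicalSpace AlgebraicGeometry Abelian
open scoped Groth.Agent.CohVanish

namespace Groth.Agent.CechCmp

open Groth.Agent.CohVanish

variable {X : Scheme.{u}} {A : Type u} [CommRing A]

/-- The underlying abelian sheaf of a module with the action of a ring through global functions. -/
noncomputable def modRSh (φ : A →+* Coh.Γtop X) (M : X.Modules) : RSh A (sp X) where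
  F := Coh.toAb M
  act :=
    RingHom.comp
      ({ toFun := Coh.smulAb M
         map_one' := Coh.smulAb_one M
         map_mul' := Coh.smulAb_mul M
         map_zero' := Coh.smulAb_zero M
         map_add' := Coh.smulAb_add M } : Coh.Γtop X →+* End (Coh.toAb M)) φ

theorem modRSh_act (φ : A →+* Coh.Γtop X) (M : X.Modules) (a : A) :
    (modRSh φ M).act a = Coh.smulAb M (φ a) := rfl

theorem acyc_modRSh (φ : A →+* Coh.Γtop X) (M : X.Modules) [M.IsQuasicoherent] {ι : Type u}
    (U : ι → X.Opens) (hU : ∀ s : Finset ι, s.Nonempty → IsAffineOpen (RSh.meetOpen U s)) :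
    (modRSh φ M).Acyc U := fun s hs n => subsingleton_EU_of_isAffineOpen M (hU s hs) n

/-- Cohomology is Čech cohomology, compatibly with the action of global functions. -/
theorem exists_HH_equiv (φ : A →+* Coh.Γtop X) (M : X.Modules) [M.IsQuasicoherent] {ι : Type u}
    [DecidableEq ι] (U : ι → X.Opens) (hcov : ⨆ i, U i = ⊤)
    (hU : ∀ s : Finset ι, s.Nonempty → IsAffineOpen (RSh.meetOpen U s)) (p : ℕ) :
    ∃ e : Coh.HH X M p ≃+ ((modRSh φ M).sys U).H p, ∀ a x, e (φ a • x) = a • e x := by
  obtain ⟨e, he⟩ := RSh.exists_cech_equiv hcov p (modRSh φ M) (acyc_modRSh φ M U hU)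
  refine ⟨(hEquiv (X := sp X) (Coh.toAb M) p).trans e, fun a x => ?_⟩
  change e (hEquiv (X := sp X) (Coh.toAb M) p (Sheaf.H.map (Coh.smulAb M (φ a)) p x)) = _
  rw [hEquiv_map]
  exact he a _

theorem subsingleton_HH (φ : A →+* Coh.Γtop X) (M : X.Modules) [M.IsQuasicoherent] {ι : Type u}
    [DecidableEq ι] (U : ι → X.Opens) (hcov : ⨆ i, U i = ⊤)
    (hU : ∀ s : Finset ι, s.Nonempty → IsAffineOpen (RSh.meetOpen U s)) (p : ℕ)
    [Subsingleton (((modRSh φ M).sys U).H p)] : Subsingleton (Coh.HH X M p) := by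
  obtain ⟨e, -⟩ := exists_HH_equiv φ M U hcov hU p
  exact e.injective.subsingleton

/-- Over `Spec A`, cohomology is linearly isomorphic to Čech cohomology. -/
theorem nonempty_HH_linearEquiv [X.Over (Spec (CommRingCat.of A))] (M : X.Modules)
    [M.IsQuasicoherent] {ι : Type u} [DecidableEq ι] (U : ι → X.Opens) (hcov : ⨆ i, U i = ⊤)
    (hU : ∀ s : Finset ι, s.Nonempty → IsAffineOpen (RSh.meetOpen U s)) (p : ℕ) :
    Nonempty (Coh.HH X M p ≃ₗ[A]
      ((modRSh (Coh.toGlobal (X ↘ Spec (CommRingCat.of A))) M).sys U).H p) := by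
  obtain ⟨e, he⟩ := exists_HH_equiv (Coh.toGlobal (X ↘ Spec (CommRingCat.of A))) M U hcov hU p
  exact ⟨{ e with map_smul' := fun a x => he a x }⟩

end Groth.Agent.CechCmp
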