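import Groth.Agent.CechCmp.RSheaf
import Groth.Prelude.Def_CohB1
import Mathlib.Algebra.Homology.ShortComplex.Ab
import Mathlib.GroupTheory.QuotientGroup.Basic
import Mathlib.CategoryTheory.Limits.ConcreteCategory.Basic
import Mathlib.CategoryTheory.Limits.Lattice
import Mathlib.Algebra.Category.Grp.Limits

/-!
# Mathlib's Čech complex computes the cohomology of the elementwise Čech complex
-/

universe u

open CategoryTheory Limits Opposite TopologicalSpace
open scoped Groth.Agent.CohVanish

namespace Groth.Agent.CechCmp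

open Groth.Agent.CohVanish

variable {R : Type u} [CommRing R] {X : TopCat.{u}} {ι : Type u} [DecidableEq ι]
  (U : ι → Opens X) (F : RSh R X)

lemma meetOpen_img_le_prod {q : ℕ} (σ : Fin q → ι) :
    RSh.meetOpen U (img σ) ≤ (∏ᶜ (U ∘ σ) : Opens X) :=
  leOfHom (Pi.lift fun k => homOfLE (iInf₂_le (σ k) (mem_img σ k)))

lemma prod_le_meetOpen_img {q : ℕ} (σ : Fin q → ι) :
    (∏ᶜ (U ∘ σ) : Opens X) ≤ RSh.meetOpen U (img σ) :=
  le_iInf₂ fun i hi => by
    obtain ⟨k, -, rfl⟩ := Finset.mem_image.1 hi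
    exact leOfHom (Pi.π (U ∘ σ) k)

/-- Cochains as an object of `AddCommGrpCat`. -/
noncomputable abbrev cGrp (q : ℕ) : AddCommGrpCat.{u} := AddCommGrpCat.of ((F.sys U).C q)

/-- The elementwise Čech complex. -/
noncomputable def elComplex : CochainComplex AddCommGrpCat.{u} ℕ :=
  CochainComplex.of (fun q => cGrp U F (q + 1))
    (fun q => AddCommGrpCat.ofHom ((F.sys U).d (q + 1)).toAddMonoidHom)
    (fun q => by
      refine ConcreteCategory.hom_ext _ _ fun c => ?_
      exact Sys.d_d (q + 1) (F.sys U) c)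

lemma elComplex_d (q : ℕ) :
    (elComplex U F).d q (q + 1) = AddCommGrpCat.ofHom ((F.sys U).d (q + 1)).toAddMonoidHom := by
  simp [elComplex]

/-- The Mathlib Čech complex. -/
noncomputable abbrev mlComplex : CochainComplex AddCommGrpCat.{u} ℕ :=
  (cechComplexFunctor (A := AddCommGrpCat.{u}) U).obj F.F.obj

/-- The factor of the Mathlib cochains at a tuple. -/
noncomputable abbrev mlFac (q : ℕ) (σ : Fin (q + 1) → ι) : AddCommGrpCat.{u} :=
  F.F.obj.obj (op (∏ᶜ (U ∘ σ) : Opens X))

/-- The comparison in each degree. -/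
noncomputable def degEquiv (q : ℕ) :
    (↥(∏ᶜ fun σ : Fin (q + 1) → ι => mlFac U F q σ) : Type u) ≃+ (F.sys U).C (q + 1) :=
  AddEquiv.ofBijective
    ({ toFun := fun x σ => F.res (meetOpen_img_le_prod U σ) (Pi.π (mlFac U F q) σ x)
       map_zero' := funext fun σ => by rw [map_zero, map_zero]; rfl
       map_add' := fun x y => funext fun σ => by rw [map_add, map_add]; rfl } : _ →+ _)
    ⟨fun x y h => by
      refine Concrete.limit_ext _ _ _ ?_
      rintro ⟨σ⟩
      have h' := congrArg (F.res (prod_le_meetOpen_img U σ)) (congrFun h σ)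
      change F.res _ (F.res _ _) = F.res _ (F.res _ _) at h'
      rw [F.res_res, F.res_res, F.res_self, F.res_self] at h'
      exact h', fun c => by
      let x : (↥(∏ᶜ fun σ : Fin (q + 1) → ι => mlFac U F q σ) : Type u) :=
        (Concrete.productEquiv (mlFac U F q)).symm fun σ => F.res (prod_le_meetOpen_img U σ) (c σ)
      refine ⟨x, funext fun σ => ?_⟩
      change F.res _ (Pi.π (mlFac U F q) σ x) = c σ
      rw [Concrete.productEquiv_symm_apply_π, F.res_res]
      exact F.res_self _⟩

lemma degEquiv_apply (q : ℕ) (x : (↥(∏ᶜ fun σ : Fin (q + 1) → ι => mlFac U F q σ) : Type u))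
    (σ : Fin (q + 1) → ι) :
    degEquiv U F q x σ = F.res (meetOpen_img_le_prod U σ) (Pi.π (mlFac U F q) σ x) := rfl

set_option backward.isDefEq.respectTransparency false in
lemma mlComplex_d_comp_π (q : ℕ) (σ : Fin (q + 2) → ι)
    (h : ∀ k : Fin (q + 2), (∏ᶜ (U ∘ σ) : Opens X) ≤ (∏ᶜ (U ∘ (σ ∘ k.succAbove)) : Opens X)) :
    (mlComplex U F).d q (q + 1) ≫ Pi.π (mlFac U F (q + 1)) σ =
      ∑ k : Fin (q + 2), (-1 : ℤ) ^ (k : ℕ) •
        (Pi.π (mlFac U F q) (σ ∘ k.succAbove) ≫ F.F.obj.map (homOfLE (h k)).op) := by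
  dsimp [mlComplex, cechComplexFunctor, FormalCoproduct.cochainComplexFunctor,
    AlgebraicTopology.alternatingCofaceMapComplex, AlgebraicTopology.AlternatingCofaceMapComplex.obj]
  rw [CochainComplex.of_d, AlgebraicTopology.AlternatingCofaceMapComplex.objD]
  erw [Preadditive.sum_comp]
  refine Finset.sum_congr rfl fun k _ => ?_
  erw [Preadditive.zsmul_comp]
  congr 1
  erw [Pi.lift_π]
  rfl

lemma hom_sum_apply {κ : Type*} {A B : AddCommGrpCat.{u}} (s : Finset κ) (f : κ → (A ⟶ B)) (x : A) :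
    (∑ k ∈ s, f k) x = ∑ k ∈ s, f k x := by
  classical
  induction s using Finset.induction with
  | empty => simp
  | insert a t ha ih => simp [Finset.sum_insert ha, ih]

/-- The comparison is compatible with the differentials. -/
lemma degEquiv_d (q : ℕ) (x : (↥(∏ᶜ fun σ : Fin (q + 1) → ι => mlFac U F q σ) : Type u)) :
    degEquiv U F (q + 1) ((mlComplex U F).d q (q + 1) x) = (F.sys U).d (q + 1) (degEquiv U F q x) := by
  funext σ
  have hle : ∀ k : Fin (q + 2), (∏ᶜ (U ∘ σ) : Opens X) ≤ (∏ᶜ (U ∘ (σ ∘ k.succAbove)) : Opens X) :=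
    fun k => leOfHom (Pi.lift fun j => Pi.π (U ∘ σ) (k.succAbove j))
  have h := ConcreteCategory.congr_hom (mlComplex_d_comp_π U F q σ hle) x
  refine (show degEquiv U F (q + 1) ((mlComplex U F).d q (q + 1) x) σ =
    F.res (meetOpen_img_le_prod U σ)
      (Pi.π (mlFac U F (q + 1)) σ ((mlComplex U F).d q (q + 1) x)) from rfl).trans ?_
  rw [Sys.d_apply]
  refine (congrArg (F.res (meetOpen_img_le_prod U σ)) (h.trans (hom_sum_apply _ _ _))).trans ?_
  rw [map_sum]
  refine Finset.sum_congr rfl fun k _ => ?_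
  rw [degEquiv_apply]
  change _ = (-1 : R) ^ (k : ℕ) • F.res _ (F.res _ _)
  rw [F.res_res]
  change F.res _ ((-1 : ℤ) ^ (k : ℕ) • F.res (hle k) _) = _
  rw [map_zsmul, F.res_res, ← Int.cast_smul_eq_zsmul R, Int.cast_pow, Int.cast_neg, Int.cast_one]
  rfl

/-- The isomorphism of complexes. -/
noncomputable def complexIso : mlComplex U F ≅ elComplex U F :=
  HomologicalComplex.Hom.isoOfComponents (fun q => (degEquiv U F q).toAddCommGrpIso)
    (fun i j hij => by
      simp only [ComplexShape.up_Rel] at hij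
      subst hij
      rw [elComplex_d]
      ext x
      exact (degEquiv_d U F i x).symm)

set_option backward.isDefEq.respectTransparency false in
/-- Homology of the elementwise complex. -/
theorem nonempty_elHomology_equiv (p : ℕ) :
    Nonempty (↥((elComplex U F).homology p) ≃+ (F.sys U).H p) := by
  cases p with
  | zero =>
    let T := (elComplex U F).sc' 0 0 1
    let e1 : (elComplex U F).homology 0 ≅ T.homology :=
      ShortComplex.homologyMapIso ((elComplex U F).isoSc' 0 0 1 (by simp) (by simp))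
    have hg : T.g = AddCommGrpCat.ofHom ((F.sys U).d 1).toAddMonoidHom := elComplex_d U F 0
    have hf : T.f = 0 := (elComplex U F).shape 0 0 (by simp)
    refine ⟨(e1 ≪≫ T.abHomologyIso).addCommGroupIsoToAddEquiv.trans
      (QuotientAddGroup.congr _ ((F.sys U).B 0 |>.comap ((F.sys U).Z 0).subtype).toAddSubgroup
        (AddEquiv.addSubgroupCongr (show AddMonoidHom.ker T.g.hom = ((F.sys U).Z 0).toAddSubgroup by
          rw [hg]; rfl)) ?_)⟩
    · ext z
      constructor
      · rintro ⟨_, ⟨y, rfl⟩, rfl⟩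
        change T.f y = 0
        rw [hf]; rfl
      · intro hz
        have : z = 0 := Subtype.ext hz
        rw [this]; exact zero_mem _
  | succ q =>
    let T := (elComplex U F).sc' q (q + 1) (q + 2)
    let e1 : (elComplex U F).homology (q + 1) ≅ T.homology :=
      ShortComplex.homologyMapIso ((elComplex U F).isoSc' q (q + 1) (q + 2) (by simp) (by simp))
    have hg : T.g = AddCommGrpCat.ofHom ((F.sys U).d (q + 2)).toAddMonoidHom := elComplex_d U F (q + 1)
    have hf : T.f = AddCommGrpCat.ofHom ((F.sys U).d (q + 1)).toAddMonoidHom := elComplex_d U F q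
    refine ⟨(e1 ≪≫ T.abHomologyIso).addCommGroupIsoToAddEquiv.trans
      (QuotientAddGroup.congr _ ((F.sys U).B (q + 1) |>.comap ((F.sys U).Z (q + 1)).subtype).toAddSubgroup
        (AddEquiv.addSubgroupCongr (show AddMonoidHom.ker T.g.hom = ((F.sys U).Z (q + 1)).toAddSubgroup by
          rw [hg]; rfl)) ?_)⟩
    · ext z
      constructor
      · rintro ⟨_, ⟨y, rfl⟩, rfl⟩
        exact ⟨y, (ConcreteCategory.congr_hom hf y).symm⟩
      · rintro ⟨y, hy⟩
        refine ⟨T.abToCycles y, ⟨y, rfl⟩, Subtype.ext ?_⟩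
        exact (ConcreteCategory.congr_hom hf y).trans hy

/-- Mathlib's Čech cohomology is the elementwise one. -/
theorem nonempty_cechH_equiv (p : ℕ) :
    Nonempty (↥(CohB1.cechHTop U F.F.obj p) ≃+ (F.sys U).H p) := by
  obtain ⟨e⟩ := nonempty_elHomology_equiv U F p
  exact ⟨((HomologicalComplex.homologyFunctor AddCommGrpCat.{u} (ComplexShape.up ℕ) p).mapIso
    (complexIso U F)).addCommGroupIsoToAddEquiv.trans e⟩

end Groth.Agent.CechCmp
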