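import Groth.Agent.CechCmp.RSheaf

/-!
# Čech cohomology computes cohomology for coverings with acyclic intersections
-/

universe u

open CategoryTheory Limits Opposite TopologicalSpace Abelian
open scoped Groth.Agent.CohVanish

namespace Groth.Agent.CechCmp

open Groth.Agent.CohVanish

/-- Two surjections with the same kernel induce an isomorphism of their targets over the source. -/
lemma exists_addEquiv_of_surjective {A B C : Type u} [AddCommGroup A] [AddCommGroup B]
    [AddCommGroup C] (f : A →+ B) (g : A →+ C) (hf : Function.Surjective f)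
    (hg : Function.Surjective g) (h : ∀ a, f a = 0 ↔ g a = 0) :
    ∃ e : B ≃+ C, ∀ a, e (f a) = g a := by
  have key : ∀ a a', f a = f a' ↔ g a = g a' := fun a a' => by
    rw [← sub_eq_zero, ← map_sub, h, map_sub, sub_eq_zero]
  choose si hsi using hf
  refine ⟨AddEquiv.ofBijective (AddMonoidHom.mk' (fun b => g (si b)) fun b b' => ?_) ⟨?_, ?_⟩, fun a => ?_⟩
  · rw [← map_add]
    exact (key _ _).1 (by rw [hsi, map_add, hsi, hsi])
  · intro b b' hb
    have := (key _ _).2 hb
    rwa [hsi, hsi] at this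
  · intro c
    obtain ⟨a, rfl⟩ := hg c
    exact ⟨f a, (key _ _).1 (hsi _)⟩
  · exact (key _ _).1 (hsi _)

variable {R : Type u} [CommRing R] {X : TopCat.{u}} {ι : Type u} [DecidableEq ι] (U : ι → Opens X)

namespace RSh

/-- Acyclicity on the intersections of the covering. -/
def Acyc (F : RSh R X) : Prop :=
  ∀ s : Finset ι, s.Nonempty → ∀ n, Subsingleton (EU F.F (meetOpen U s) (n + 1))

variable {U} {F G : RSh R X}

/-- The action on cohomology commutes with the connecting map. -/
lemma eDelta_act (F : RSh R X) (n : ℕ) (r : R) (x : EU F.godQuot.F (⊤ : Opens X) n) :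
    eMap (F.act r) ⊤ (n + 1) (eDelta F.godSES_shortExact ⊤ n x) =
      eDelta F.godSES_shortExact ⊤ n (eMap (F.godQuot.act r) ⊤ n x) :=
  eDelta_naturality F.godSES_shortExact F.godSES_shortExact (F.godSESAct r) ⊤ n x

lemma acyc_godQuot (hF : F.Acyc U) : F.godQuot.Acyc U := fun s hs n => by
  haveI : Subsingleton (EU F.godSES.X₂ (meetOpen U s) (n + 1)) :=
    subsingleton_of_flasque F.god.F _ n
  haveI : Subsingleton (EU F.godSES.X₁ (meetOpen U s) (n + 1 + 1)) := hF s hs (n + 1)
  exact (eDelta_injective F.godSES_shortExact (meetOpen U s) (n + 1)).subsingleton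

/-- The map on cochains. -/
noncomputable def Hom.mapC (φ : Hom F G) (p : ℕ) : (F.sys U).C p →ₗ[R] (G.sys U).C p :=
  LinearMap.pi fun σ => φ.app _ ∘ₗ LinearMap.proj σ

lemma Hom.mapC_apply (φ : Hom F G) (p : ℕ) (c : (F.sys U).C p) (σ : Fin p → ι) :
    φ.mapC p c σ = φ.app _ (c σ) := rfl

lemma Hom.mapC_d (φ : Hom F G) (p : ℕ) (c : (F.sys U).C p) :
    φ.mapC (p + 1) ((F.sys U).d p c) = (G.sys U).d p (φ.mapC p c) := by
  funext σ
  rw [φ.mapC_apply, Sys.d_apply, Sys.d_apply, map_sum]
  refine Finset.sum_congr rfl fun k _ => ?_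
  rw [map_smul]
  exact congrArg _ (φ.app_res _ _)

lemma incHom_injective (F : RSh R X) (p : ℕ) :
    Function.Injective (F.incHom.mapC (U := U) p) := fun c c' h =>
  funext fun σ => F.toGod_injective _ (congrFun h σ)

lemma proj_inc (F : RSh R X) (p : ℕ) (c : (F.sys U).C p) :
    F.projHom.mapC p (F.incHom.mapC p c) = 0 := by
  funext σ
  exact ConcreteCategory.congr_hom (congrArg (fun a : F.F ⟶ F.godQuot.F => a.hom.app _)
    (cokernel.condition F.toGod)) (c σ)

lemma exact_cochains (F : RSh R X) (p : ℕ) (c : (F.god.sys U).C p)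
    (h : F.projHom.mapC p c = 0) : ∃ c', F.incHom.mapC p c' = c := by
  have : ∀ σ : Fin p → ι, ∃ a, F.incHom.app _ a = c σ := fun σ => by
    have h1 : eMap F.godSES.g (meetOpen U (img σ)) 0 ((eu0 _ _).symm (c σ)) = 0 := by
      apply (eu0 (meetOpen U (img σ)) F.godSES.X₃).injective
      rw [eu0_eMap, AddEquiv.apply_symm_apply, map_zero]
      exact congrFun h σ
    obtain ⟨y, hy⟩ := (eMap_g_eq_zero_iff F.godSES_shortExact _ 0 _).1 h1
    refine ⟨eu0 _ _ y, ?_⟩
    have h2 := congrArg (eu0 (meetOpen U (img σ)) F.godSES.X₂) hy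
    rw [eu0_eMap, AddEquiv.apply_symm_apply] at h2
    exact h2
  choose a ha using this
  exact ⟨a, funext ha⟩

lemma proj_surjective (hF : F.Acyc U) (p : ℕ) :
    Function.Surjective (F.projHom.mapC (U := U) (p + 1)) := fun c => by
  have : ∀ σ : Fin (p + 1) → ι, ∃ a, F.projHom.app _ a = c σ := fun σ => by
    haveI : Subsingleton (EU F.godSES.X₁ (meetOpen U (img σ)) 1) := hF _ ⟨_, mem_img σ 0⟩ 0
    exact surjective_app_of_subsingleton F.godSES_shortExact _ (c σ)
  choose a ha using this
  exact ⟨a, funext ha⟩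

/-- Godement sheaves have a homotopy. -/
noncomputable def godHomotopy (F : RSh R X) (hcov : ⨆ i, U i = ⊤) :
    (F.god.sys U).Homotopy fun _ => LinearMap.id :=
  let c : X → ι := fun x => (Opens.mem_iSup.1 (show x ∈ ⨆ i, U i from hcov ▸ trivial)).choose
  have hc : ∀ x, x ∈ U (c x) := fun x =>
    (Opens.mem_iSup.1 (show x ∈ ⨆ i, U i from hcov ▸ trivial)).choose_spec
  { h := fun s =>
      { toFun := fun y x => y (c x.1) ⟨x.1, mem_meetOpen_insert U x.2 (hc x.1)⟩
        map_add' := fun _ _ => rfl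
        map_smul' := fun _ _ => rfl }
    nat := fun _ _ _ => rfl
    diag := fun _ _ _ => rfl }

/-- The augmentation identifies sections with cocycles in degree zero. -/
noncomputable def aug (F : RSh R X) (U : ι → Opens X) :
    F.F.obj.obj (op (⊤ : Opens X)) →ₗ[R] (F.sys U).Z 0 :=
  LinearMap.codRestrict _ (LinearMap.pi fun σ => F.res (le_top (a := meetOpen U (img σ))))
    fun x => LinearMap.mem_ker.2 <| funext fun σ => by
      rw [Sys.d_apply, Fin.sum_univ_two]
      simp only [Fin.val_zero, Fin.val_one, pow_zero, pow_one, one_smul, neg_smul,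
        LinearMap.pi_apply, sys]
      rw [F.res_res, F.res_res, add_neg_cancel]
      rfl

lemma aug_apply (F : RSh R X) (x : F.F.obj.obj (op (⊤ : Opens X))) (σ : Fin 1 → ι) :
    (F.aug U x : (F.sys U).C 1) σ = F.res le_top x := rfl

lemma aug_bijective (F : RSh R X) (hcov : ⨆ i, U i = ⊤) : Function.Bijective (F.aug U) := by
  let σ₁ : ι → Fin 1 → ι := fun i _ => i
  have hle : ∀ σ : Fin 1 → ι, meetOpen U (img σ) = U (σ 0) := fun σ => by
    have : img σ = {σ 0} := by
      ext a; simp [Fin.exists_fin_one, eq_comm]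
    rw [this]; simp [meetOpen]
  constructor
  · intro a b h
    refine TopCat.Sheaf.eq_of_locally_eq' F.F U ⊤ (fun i => homOfLE le_top) hcov.ge _ _ fun i => ?_
    have h' : F.res le_top a = F.res le_top b := congrFun (congrArg Subtype.val h) (σ₁ i)
    have := congrArg (F.res (hle (σ₁ i)).ge) h'
    rw [F.res_res, F.res_res] at this
    exact this
  · rintro ⟨z, hz⟩
    rw [LinearMap.mem_ker] at hz
    have hz' : ∀ τ : Fin 2 → ι,
        F.res (meetOpen_anti U (img_comp_subset τ (Fin.succAbove 0))) (z (τ ∘ Fin.succAbove 0)) =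
          F.res (meetOpen_anti U (img_comp_subset τ (Fin.succAbove 1))) (z (τ ∘ Fin.succAbove 1)) := by
      intro τ
      have h := congrFun hz τ
      rw [Sys.d_apply, Fin.sum_univ_two] at h
      simp only [Fin.val_zero, Fin.val_one, pow_zero, pow_one, one_smul, neg_smul, sys,
        Pi.zero_apply] at h
      exact eq_of_add_neg_eq_zero h
    let sf : ∀ i, F.F.obj.obj (op (U i)) := fun i => F.res (hle (σ₁ i)).ge (z (σ₁ i))
    have hcompat : TopCat.Presheaf.IsCompatible F.F.obj U sf := by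
      intro i j
      let τ : Fin 2 → ι := ![i, j]
      have hinf : meetOpen U (img τ) = U i ⊓ U j := by
        have : img τ = {i, j} := by ext a; simp [τ, Fin.exists_fin_two, eq_comm]
        rw [this]; simp only [meetOpen, Finset.iInf_insert, Finset.iInf_singleton]
      have h := congrArg (F.res hinf.ge) (hz' τ)
      rw [F.res_res, F.res_res] at h
      have e0 : τ ∘ Fin.succAbove 0 = σ₁ j := by funext k; fin_cases k; rfl
      have e1 : τ ∘ Fin.succAbove 1 = σ₁ i := by funext k; fin_cases k; rfl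
      have cg : ∀ (ρ ρ' : Fin 1 → ι), ρ = ρ' → ∀ (hρ : U i ⊓ U j ≤ meetOpen U (img ρ))
          (hρ' : U i ⊓ U j ≤ meetOpen U (img ρ')), F.res hρ (z ρ) = F.res hρ' (z ρ') := by
        rintro ρ _ rfl _ _; rfl
      change F.res inf_le_left (F.res (hle (σ₁ i)).ge (z (σ₁ i))) =
        F.res inf_le_right (F.res (hle (σ₁ j)).ge (z (σ₁ j)))
      rw [F.res_res, F.res_res]
      exact (cg _ _ e1.symm _ _).trans (h.symm.trans (cg _ _ e0 _ _))
    obtain ⟨x, hx, -⟩ := TopCat.Sheaf.existsUnique_gluing' F.F U ⊤ (fun i => homOfLE le_top) hcov.ge sf hcompat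
    refine ⟨x, Subtype.ext (funext fun σ => ?_)⟩
    obtain ⟨i, rfl⟩ : ∃ i, σ = σ₁ i := ⟨σ 0, funext fun k => by rw [show k = 0 from Fin.ext (by omega)]⟩
    have h := congrArg (F.res (hle (σ₁ i)).le) (hx i)
    rw [← res_apply, F.res_res, F.res_res, F.res_self] at h
    exact h

/-- Degree zero comparison. -/
noncomputable def cmp0 (F : RSh R X) (hcov : ⨆ i, U i = ⊤) :
    EU F.F (⊤ : Opens X) 0 ≃+ (F.sys U).H 0 :=
  ((eu0 ⊤ F.F).trans (AddEquiv.ofBijective (F.aug U).toAddMonoidHom (F.aug_bijective hcov))).trans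
    (Submodule.quotEquivOfEqBot _ (by rw [Submodule.eq_bot_iff]; intro z hz; exact Subtype.ext hz)).symm.toAddEquiv

lemma cmp0_apply (F : RSh R X) (hcov : ⨆ i, U i = ⊤) (x : EU F.F (⊤ : Opens X) 0) :
    F.cmp0 hcov x = (F.sys U).cls 0 (F.aug U (eu0 ⊤ F.F x)) := rfl

set_option maxHeartbeats 800000 in
/-- **Čech cohomology computes cohomology.** -/
theorem exists_cech_equiv (hcov : ⨆ i, U i = ⊤) (p : ℕ) :
    ∀ (F : RSh R X), F.Acyc U → ∃ e : EU F.F (⊤ : Opens X) p ≃+ (F.sys U).H p,
      ∀ r x, e (eMap (F.act r) ⊤ p x) = r • e x := by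
  induction p with
  | zero =>
    intro F _
    refine ⟨F.cmp0 hcov, fun r x => ?_⟩
    rw [cmp0_apply, cmp0_apply, eu0_eMap, ← map_smul, ← map_smul]
    rfl
  | succ p ih =>
    intro F hF
    let S := F.sys U
    let SG := F.god.sys U
    let SQ := F.godQuot.sys U
    let ic := fun q => F.incHom.mapC (U := U) q
    let pc := fun q => F.projHom.mapC (U := U) q
    have hex : ∀ z : SQ.Z p, ∃ a : S.Z (p + 1), ∃ b : SG.C (p + 1),
        pc (p + 1) b = z ∧ ic (p + 2) a = SG.d (p + 1) b := by
      intro z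
      obtain ⟨b, hb⟩ := proj_surjective hF p (z : SQ.C (p + 1))
      have h0 : pc (p + 2) (SG.d (p + 1) b) = 0 := by
        simp only [pc, SG]; rw [Hom.mapC_d, hb]; exact LinearMap.mem_ker.1 z.2
      obtain ⟨a, ha⟩ := exact_cochains F (p + 2) _ h0
      refine ⟨⟨a, LinearMap.mem_ker.2 (incHom_injective F (p + 3) ?_)⟩, b, hb, ha⟩
      rw [Hom.mapC_d, ha, Sys.d_d, map_zero]
    have huniq : ∀ (a a' : S.Z (p + 1)) (b b' : SG.C (p + 1)), pc (p + 1) b = pc (p + 1) b' →
        ic (p + 2) a = SG.d (p + 1) b → ic (p + 2) a' = SG.d (p + 1) b' →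
        S.cls (p + 1) a = S.cls (p + 1) a' := by
      intro a a' b b' hbb ha ha'
      rw [← sub_eq_zero, ← map_sub, Sys.cls_eq_zero_iff]
      obtain ⟨c, hc⟩ := exact_cochains F (p + 1) (b - b') (by
        show pc (p + 1) (b - b') = 0
        rw [map_sub, hbb, sub_self])
      refine ⟨c, incHom_injective F (p + 2) ?_⟩
      rw [Hom.mapC_d, hc, map_sub, ← ha, ← ha', ← map_sub]
      rfl
    choose da db hdb hda using hex
    let δ : SQ.Z p →ₗ[R] S.H (p + 1) :=
      { toFun := fun z => S.cls (p + 1) (da z)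
        map_add' := fun z z' => by
          rw [← map_add]
          refine huniq _ _ (db (z + z')) (db z + db z') ?_ (hda _) ?_
          · rw [hdb, map_add, hdb, hdb]; rfl
          · rw [map_add, ← hda, ← hda, ← map_add]; rfl
        map_smul' := fun r z => by
          rw [RingHom.id_apply, ← map_smul]
          refine huniq _ _ (db (r • z)) (r • db z) ?_ (hda _) ?_
          · rw [hdb, map_smul, hdb]; rfl
          · rw [map_smul, ← hda, ← map_smul]; rfl }
    have hB : ∀ z : SQ.Z p, (z : SQ.C (p + 1)) ∈ SQ.B p → δ z = 0 := by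
      intro z hz
      change S.cls (p + 1) (da z) = 0
      rw [← (S.cls (p + 1)).map_zero]
      cases p with
      | zero =>
        refine huniq _ _ (db z) 0 ?_ (hda _) (by rw [map_zero]; exact map_zero _)
        rw [hdb, map_zero]; exact hz
      | succ q =>
        obtain ⟨w, hw⟩ := hz
        obtain ⟨w', rfl⟩ := proj_surjective hF q w
        refine huniq _ _ (db z) (SG.d (q + 1) w') ?_ (hda _) ?_
        · rw [hdb, ← hw, ← Hom.mapC_d]
        · rw [Sys.d_d]; exact map_zero _
    let δ' : SQ.H p →ₗ[R] S.H (p + 1) :=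
      Submodule.liftQ _ δ fun z hz => LinearMap.mem_ker.2 (hB z hz)
    have hδ' : ∀ z, δ' (SQ.cls p z) = δ z := fun z => rfl
    have hsurj : Function.Surjective δ' := by
      intro x
      obtain ⟨a, rfl⟩ := Submodule.mkQ_surjective _ x
      have hz : SG.d (p + 2) (ic (p + 2) a) = 0 := by
        simp only [ic, SG]; rw [← Hom.mapC_d, LinearMap.mem_ker.1 a.2, map_zero]
      obtain ⟨b, hb⟩ := Sys.mem_B_of_homotopy (F.godHomotopy hcov) p ⟨_, LinearMap.mem_ker.2 hz⟩
      let z : SQ.Z p := ⟨pc (p + 1) b, LinearMap.mem_ker.2 (by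
        simp only [pc, SQ]; rw [← Hom.mapC_d, hb]; exact proj_inc F _ _)⟩
      exact ⟨SQ.cls p z, huniq _ _ (db z) b (hdb z) (hda z) hb.symm⟩
    obtain ⟨eQ, heQ⟩ : ∃ e : EU F.godQuot.F (⊤ : Opens X) p ≃+ SQ.H p,
        ∀ r x, e (eMap (F.godQuot.act r) ⊤ p x) = r • e x := ih _ (acyc_godQuot hF)
    haveI : Subsingleton (EU F.godSES.X₂ (⊤ : Opens X) (p + 1)) := subsingleton_of_flasque F.god.F _ p
    have hE := eDelta_surjective F.godSES_shortExact (⊤ : Opens X) p
    have key : ∃ eQ : EU F.godQuot.F (⊤ : Opens X) p ≃+ SQ.H p,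
        (∀ r x, eQ (eMap (F.godQuot.act r) ⊤ p x) = r • eQ x) ∧
        ∀ x, eDelta F.godSES_shortExact ⊤ p x = 0 ↔ δ' (eQ x) = 0 := by
      cases p with
      | zero =>
        refine ⟨F.godQuot.cmp0 hcov, fun r x => ?_, fun x => ?_⟩
        · rw [cmp0_apply, cmp0_apply, eu0_eMap, ← map_smul, ← map_smul]; rfl
        rw [cmp0_apply, hδ', eDelta_zero_eq_zero]
        set q := eu0 (⊤ : Opens X) F.godQuot.F x with hq
        constructor
        · rintro ⟨t, ht⟩
          change S.cls 1 (da _) = 0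
          rw [← (S.cls 1).map_zero]
          refine huniq _ _ (db _) (F.god.aug U t : SG.C 1) ?_ (hda _) ?_
          · rw [hdb]
            funext σ
            change F.godQuot.res le_top q = F.projHom.app _ (F.god.res le_top t)
            rw [Hom.app_res, ← show F.projHom.app ⊤ t = q from ht]
          · rw [LinearMap.mem_ker.1 (F.god.aug U t).2]; exact map_zero _
        · intro h
          obtain ⟨c, hc⟩ := (Sys.cls_eq_zero_iff S _).1 h
          obtain ⟨t, ht⟩ := (F.god.aug_bijective hcov).2 ⟨db (F.godQuot.aug U q) - ic 1 c,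
            LinearMap.mem_ker.2 (by
              rw [map_sub, ← hda, ← Hom.mapC_d, sub_eq_zero]; exact congrArg _ hc.symm)⟩
          refine ⟨t, (F.godQuot.aug_bijective hcov).1 (Subtype.ext (funext fun σ => ?_))⟩
          change F.godQuot.res le_top (F.projHom.app ⊤ t) = F.godQuot.res le_top q
          rw [← Hom.app_res]
          have h1 : F.god.res le_top t = (db (F.godQuot.aug U q) - ic 1 c) σ :=
            congrFun (congrArg Subtype.val ht) σ
          rw [h1]
          change pc 1 (db (F.godQuot.aug U q) - ic 1 c) σ = _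
          rw [map_sub, hdb, show pc 1 (ic 1 c) = 0 from proj_inc F 1 c, sub_zero]
          rfl
      | succ q =>
        refine ⟨eQ, heQ, fun x => ?_⟩
        haveI : Subsingleton (EU F.godSES.X₂ (⊤ : Opens X) (q + 1)) := subsingleton_of_flasque F.god.F _ q
        rw [(injective_iff_map_eq_zero' (eDelta F.godSES_shortExact ⊤ (q + 1))).1
          (eDelta_injective F.godSES_shortExact ⊤ (q + 1)) x]
        refine ⟨fun h => by rw [h, map_zero, map_zero], fun h => ?_⟩
        apply eQ.injective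
        rw [map_zero]
        obtain ⟨z, hz⟩ := Submodule.mkQ_surjective _ (eQ x)
        rw [← hz] at h ⊢
        obtain ⟨c, hc⟩ := (Sys.cls_eq_zero_iff S _).1 h
        have hcyc : SG.d (q + 2) (db z - ic (q + 2) c) = 0 := by
          rw [map_sub, ← hda, ← Hom.mapC_d, sub_eq_zero]; exact congrArg _ hc.symm
        obtain ⟨w, hw⟩ := Sys.mem_B_of_homotopy (F.godHomotopy hcov) q ⟨_, LinearMap.mem_ker.2 hcyc⟩
        refine (Sys.cls_eq_zero_iff SQ z).2 ⟨pc (q + 1) w, ?_⟩
        simp only [pc, SQ]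
        rw [← Hom.mapC_d, hw, map_sub, show F.projHom.mapC (q + 2) (db z) = _ from hdb z,
          show F.projHom.mapC (q + 2) (ic (q + 2) c) = 0 from proj_inc F _ c, sub_zero]
    obtain ⟨eQ', heQ', hker⟩ := key
    obtain ⟨e, he⟩ := exists_addEquiv_of_surjective (eDelta F.godSES_shortExact (⊤ : Opens X) p)
      (δ'.toAddMonoidHom.comp eQ'.toAddMonoidHom) hE (hsurj.comp eQ'.surjective) hker
    refine ⟨e, fun r x => ?_⟩
    obtain ⟨y, rfl⟩ := hE x
    rw [show eMap (F.act r) ⊤ (p + 1) (eDelta F.godSES_shortExact ⊤ p y) = _ from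
      eDelta_act F p r y]
    exact (he _).trans ((congrArg δ' (heQ' r y)).trans ((δ'.map_smul r _).trans (by rw [he]; rfl)))

end RSh

end Groth.Agent.CechCmp
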