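import Groth.Agent.CechCmp.Sys
import Groth.Agent.CohVanish.LES
import Mathlib.Topology.Sheaves.Stalks
import Mathlib.Topology.Sheaves.SheafCondition.UniqueGluing
import Mathlib.Topology.Sheaves.Flasque
import Mathlib.Algebra.Category.Grp.Limits
import Mathlib.Algebra.Category.Grp.Colimits
import Mathlib.Algebra.Category.Grp.FilteredColimits

/-!
# Abelian sheaves with an action of a ring, their Čech systems and Godement sheaves
-/

universe u

open CategoryTheory Limits Opposite TopologicalSpace Abelian
open scoped Groth.Agent.CohVanish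

namespace Groth.Agent.CechCmp

open Groth.Agent.CohVanish

variable (R : Type u) [CommRing R]

/-- An abelian sheaf with an action of `R`. -/
structure RSh (X : TopCat.{u}) where
  /-- The sheaf. -/
  F : AbSh X
  /-- The action. -/
  act : R →+* End F

variable {R} {X : TopCat.{u}}

lemma abSh_hom_ext {F G : AbSh X} {a b : F ⟶ G} (h : ∀ W s, a.hom.app W s = b.hom.app W s) :
    a = b :=
  ObjectProperty.hom_ext _ (NatTrans.ext (funext fun W => ConcreteCategory.hom_ext _ _ (h W)))

namespace RSh

variable (F : RSh R X)

/-- The action on sections over an open. -/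
def actAt (W : Opens X) : R →+* AddMonoid.End (F.F.obj.obj (op W)) where
  toFun r := ((F.act r).hom.app (op W)).hom
  map_one' := by rw [map_one]; rfl
  map_mul' r s := by rw [map_mul]; rfl
  map_zero' := by rw [map_zero]; rfl
  map_add' r s := by rw [map_add]; rfl

/-- Sections over an open, as a module. -/
noncomputable instance moduleSec (W : Opens X) : Module R (F.F.obj.obj (op W)) :=
  Module.compHom _ (F.actAt W)

lemma smul_def (W : Opens X) (r : R) (x : F.F.obj.obj (op W)) :
    r • x = (F.act r).hom.app (op W) x := rfl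

/-- Restriction of sections, as a linear map. -/
noncomputable def res {V W : Opens X} (h : V ≤ W) :
    F.F.obj.obj (op W) →ₗ[R] F.F.obj.obj (op V) where
  toFun := F.F.obj.map (homOfLE h).op
  map_add' := map_add _
  map_smul' r x := (ConcreteCategory.congr_hom ((F.act r).hom.naturality (homOfLE h).op) x).symm

lemma res_apply {V W : Opens X} (h : V ≤ W) (x : F.F.obj.obj (op W)) :
    F.res h x = F.F.obj.map (homOfLE h).op x := rfl

@[simp]
lemma res_self {W : Opens X} (x : F.F.obj.obj (op W)) : F.res le_rfl x = x := by
  rw [res_apply, show homOfLE (le_refl W) = 𝟙 W from rfl, op_id, CategoryTheory.Functor.map_id]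
  rfl

lemma res_res {U V W : Opens X} (h : U ≤ V) (h' : V ≤ W) (x : F.F.obj.obj (op W)) :
    F.res h (F.res h' x) = F.res (h.trans h') x := by
  rw [res_apply, res_apply, res_apply, ← ConcreteCategory.comp_apply, ← Functor.map_comp, ← op_comp,
    homOfLE_comp]

variable {ι : Type u} (U : ι → Opens X)

/-- The intersection over a finite set of indices. -/
abbrev meetOpen (s : Finset ι) : Opens X := ⨅ i ∈ s, U i

omit F in
lemma meetOpen_anti {s t : Finset ι} (h : s ⊆ t) : meetOpen U t ≤ meetOpen U s :=
  le_iInf₂ fun i hi => iInf₂_le i (h hi)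

/-- The system of sections of the intersections. -/
noncomputable abbrev sys : Sys R ι where
  obj s := ModuleCat.of R (F.F.obj.obj (op (meetOpen U s)))
  res h := F.res (meetOpen_anti U h)
  res_refl s x := F.res_self x
  res_res _ _ x := F.res_res _ _ x

lemma mem_meetOpen_insert [DecidableEq ι] {s : Finset ι} {i : ι} {x : X} (hx : x ∈ meetOpen U s)
    (hi : x ∈ U i) : x ∈ meetOpen U (insert i s) := by
  induction s using Finset.induction with
  | empty => simpa [meetOpen] using hi
  | insert j t _ _ =>
    simp only [meetOpen, Finset.iInf_insert, Opens.mem_inf] at hx ⊢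
    exact ⟨hi, hx⟩

/-- The stalk of the sheaf. -/
abbrev st (x : X) : Type u := (TopCat.Presheaf.stalk F.F.obj x : AddCommGrpCat.{u})

/-- The action on a stalk. -/
noncomputable def actStalk (x : X) : R →+* AddMonoid.End (F.st x) where
  toFun r := ((TopCat.Presheaf.stalkFunctor AddCommGrpCat.{u} x).map (F.act r).hom).hom
  map_one' := by
    refine AddMonoidHom.ext fun t => ?_
    obtain ⟨W, hx, s, rfl⟩ := TopCat.Presheaf.exists_germ_eq F.F.obj (x := x) t
    change (TopCat.Presheaf.stalkFunctor AddCommGrpCat.{u} x).map (F.act 1).hom _ = _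
    rw [TopCat.Presheaf.stalkFunctor_map_germ_apply, map_one]
    rfl
  map_mul' r r' := by
    refine AddMonoidHom.ext fun t => ?_
    obtain ⟨W, hx, s, rfl⟩ := TopCat.Presheaf.exists_germ_eq F.F.obj (x := x) t
    change (TopCat.Presheaf.stalkFunctor AddCommGrpCat.{u} x).map (F.act (r * r')).hom _ =
      (TopCat.Presheaf.stalkFunctor AddCommGrpCat.{u} x).map (F.act r).hom
        ((TopCat.Presheaf.stalkFunctor AddCommGrpCat.{u} x).map (F.act r').hom _)
    rw [TopCat.Presheaf.stalkFunctor_map_germ_apply, TopCat.Presheaf.stalkFunctor_map_germ_apply,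
      TopCat.Presheaf.stalkFunctor_map_germ_apply, map_mul]
    rfl
  map_zero' := by
    refine AddMonoidHom.ext fun t => ?_
    obtain ⟨W, hx, s, rfl⟩ := TopCat.Presheaf.exists_germ_eq F.F.obj (x := x) t
    change (TopCat.Presheaf.stalkFunctor AddCommGrpCat.{u} x).map (F.act 0).hom _ = 0
    rw [TopCat.Presheaf.stalkFunctor_map_germ_apply, map_zero]
    exact map_zero _
  map_add' r r' := by
    refine AddMonoidHom.ext fun t => ?_
    obtain ⟨W, hx, s, rfl⟩ := TopCat.Presheaf.exists_germ_eq F.F.obj (x := x) t
    change (TopCat.Presheaf.stalkFunctor AddCommGrpCat.{u} x).map (F.act (r + r')).hom _ =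
      (TopCat.Presheaf.stalkFunctor AddCommGrpCat.{u} x).map (F.act r).hom _ +
        (TopCat.Presheaf.stalkFunctor AddCommGrpCat.{u} x).map (F.act r').hom _
    rw [TopCat.Presheaf.stalkFunctor_map_germ_apply, TopCat.Presheaf.stalkFunctor_map_germ_apply,
      TopCat.Presheaf.stalkFunctor_map_germ_apply, map_add]
    exact map_add _ _ _

/-- Families of germs, as a presheaf. -/
noncomputable def godPre : (Opens X)ᵒᵖ ⥤ AddCommGrpCat.{u} where
  obj W := AddCommGrpCat.of (∀ x : W.unop, F.st x.1)
  map f := AddCommGrpCat.ofHom
    { toFun := fun s x => s ⟨x.1, leOfHom f.unop x.2⟩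
      map_zero' := rfl
      map_add' := fun _ _ => rfl }

lemma godPre_isSheaf : TopCat.Presheaf.IsSheaf F.godPre := by
  rw [TopCat.Presheaf.isSheaf_iff_isSheafUniqueGluing]
  intro κ V sf hsf
  choose j hj using fun x : (iSup V : Opens X) => Opens.mem_iSup.1 x.2
  refine ⟨fun x => sf (j x) ⟨x.1, hj x⟩, fun i => funext fun y => ?_, fun s hs => funext fun x => ?_⟩
  · exact congrFun (hsf (j ⟨y.1, Opens.mem_iSup.2 ⟨i, y.2⟩⟩) i) ⟨y.1, hj _, y.2⟩
  · exact congrFun (hs (j x)) ⟨x.1, hj x⟩

/-- The action on families of germs. -/
noncomputable def godAct (r : R) :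
    (⟨F.godPre, F.godPre_isSheaf⟩ : AbSh X) ⟶ ⟨F.godPre, F.godPre_isSheaf⟩ :=
  ⟨{ app := fun W => AddCommGrpCat.ofHom
      { toFun := fun s x => F.actStalk x.1 r (s x)
        map_zero' := funext fun x => map_zero _
        map_add' := fun s t => funext fun x => map_add _ _ _ } }⟩

/-- The Godement sheaf. -/
noncomputable def god : RSh R X where
  F := ⟨F.godPre, F.godPre_isSheaf⟩
  act :=
    { toFun := F.godAct
      map_one' := by
        refine abSh_hom_ext fun W s => funext fun x => ?_
        change F.actStalk x.1 1 (s x) = s x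
        rw [map_one]; rfl
      map_mul' := fun r r' => by
        refine abSh_hom_ext fun W s => funext fun x => ?_
        change F.actStalk x.1 (r * r') (s x) = F.actStalk x.1 r (F.actStalk x.1 r' (s x))
        rw [map_mul]; rfl
      map_zero' := by
        refine abSh_hom_ext fun W s => funext fun x => ?_
        change F.actStalk x.1 0 (s x) = 0
        rw [map_zero]; rfl
      map_add' := fun r r' => by
        refine abSh_hom_ext fun W s => funext fun x => ?_
        change F.actStalk x.1 (r + r') (s x) = F.actStalk x.1 r (s x) + F.actStalk x.1 r' (s x)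
        rw [map_add]; rfl }

/-- The embedding into the Godement sheaf. -/
noncomputable def toGod : F.F ⟶ F.god.F :=
  ⟨{ app := fun W => AddCommGrpCat.ofHom
      { toFun := fun s x => TopCat.Presheaf.germ F.F.obj W.unop x.1 x.2 s
        map_zero' := funext fun x => map_zero _
        map_add' := fun s t => funext fun x => map_add _ _ _ }
     naturality := fun W V f => by
      ext s
      refine funext fun x => ?_
      exact TopCat.Presheaf.germ_res_apply F.F.obj f.unop x.1 x.2 s }⟩

lemma toGod_comm (r : R) : F.act r ≫ F.toGod = F.toGod ≫ F.god.act r := by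
  refine abSh_hom_ext fun W s => funext fun x => ?_
  exact (TopCat.Presheaf.stalkFunctor_map_germ_apply W.unop x.1 x.2 (F.act r).hom s).symm

lemma toGod_injective (W : (Opens X)ᵒᵖ) : Function.Injective (F.toGod.hom.app W) := fun s t h => by
  refine TopCat.Presheaf.section_ext F.F W.unop s t fun x hx => ?_
  exact congrFun h ⟨x, hx⟩

instance : Mono F.toGod := by
  haveI : ∀ W, Mono (F.toGod.hom.app W) := fun W =>
    (AddCommGrpCat.mono_iff_injective _).2 (F.toGod_injective W)
  haveI : Mono F.toGod.hom := NatTrans.mono_of_mono_app _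
  exact (sheafToPresheaf _ _).mono_of_mono_map (show Mono F.toGod.hom from inferInstance)

instance isFlasque_god : TopCat.Sheaf.IsFlasque F.god.F where
  epi {V W} i := by
    classical
    rw [AddCommGrpCat.epi_iff_surjective]
    intro s
    refine ⟨fun x => if h : x.1 ∈ W.unop then s ⟨x.1, h⟩ else 0, funext fun x => ?_⟩
    exact dif_pos x.2

/-- The quotient of the Godement sheaf by the sheaf. -/
noncomputable def godQuot : RSh R X where
  F := cokernel F.toGod
  act :=
    { toFun := fun r => cokernel.map _ _ (F.act r) (F.god.act r) (F.toGod_comm r).symm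
      map_one' := by rw [← cancel_epi (cokernel.π F.toGod)]; simp [End.one_def]
      map_mul' := fun r r' => by
        rw [← cancel_epi (cokernel.π F.toGod)]; simp [End.mul_def]
      map_zero' := by rw [← cancel_epi (cokernel.π F.toGod)]; simp
      map_add' := fun r r' => by
        rw [← cancel_epi (cokernel.π F.toGod)]; simp only [map_add, cokernel.π_desc]
        erw [Preadditive.add_comp, Preadditive.comp_add, cokernel.π_desc, cokernel.π_desc] }

/-- The short exact sequence of the Godement embedding. -/
noncomputable abbrev godSES : ShortComplex (AbSh X) :=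
  ShortComplex.mk (X₁ := F.F) (X₂ := F.god.F) (X₃ := F.godQuot.F) F.toGod (cokernel.π _)
    (cokernel.condition _)

lemma godSES_shortExact : F.godSES.ShortExact where
  exact := ShortComplex.exact_of_g_is_cokernel _ (cokernelIsCokernel _)
  mono_f := inferInstanceAs (Mono F.toGod)
  epi_g := coequalizer.π_epi

/-- The endomorphism of the short exact sequence given by a scalar. -/
noncomputable def godSESAct (r : R) : F.godSES ⟶ F.godSES where
  τ₁ := F.act r
  τ₂ := F.god.act r
  τ₃ := F.godQuot.act r
  comm₁₂ := F.toGod_comm r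
  comm₂₃ := (cokernel.π_desc _ _ _).symm

/-- A morphism commuting with the action. -/
structure Hom (F G : RSh R X) where
  /-- The morphism. -/
  hom : F.F ⟶ G.F
  comm : ∀ r, F.act r ≫ hom = hom ≫ G.act r

variable {F} {G : RSh R X}

/-- A morphism on sections, as a linear map. -/
noncomputable def Hom.app (φ : Hom F G) (W : Opens X) :
    F.F.obj.obj (op W) →ₗ[R] G.F.obj.obj (op W) where
  toFun := φ.hom.hom.app (op W)
  map_add' := map_add _
  map_smul' r x := ConcreteCategory.congr_hom
    (congrArg (fun a : F.F ⟶ G.F => a.hom.app (op W)) (φ.comm r)) x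

lemma Hom.app_res (φ : Hom F G) {V W : Opens X} (h : V ≤ W) (x : F.F.obj.obj (op W)) :
    φ.app V (F.res h x) = G.res h (φ.app W x) :=
  ConcreteCategory.congr_hom (φ.hom.hom.naturality (homOfLE h).op) x

variable (F)

/-- The embedding, commuting with the action. -/
noncomputable abbrev incHom : Hom F F.god := ⟨F.toGod, F.toGod_comm⟩

/-- The projection, commuting with the action. -/
noncomputable abbrev projHom : Hom F.god F.godQuot :=
  ⟨cokernel.π _, fun r => (F.godSESAct r).comm₂₃⟩

end RSh

end Groth.Agent.CechCmp
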