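import Mathlib.Algebra.Category.ModuleCat.Basic
import Mathlib.Data.Fintype.Basic
import Mathlib.Data.Finset.Image
import Mathlib.Algebra.BigOperators.Fin
import Mathlib.LinearAlgebra.Quotient.Basic
import Mathlib.LinearAlgebra.Pi
import Mathlib.RingTheory.Finiteness.Basic
import Mathlib.RingTheory.Noetherian.Basic
import Mathlib.Tactic.Module
import Mathlib.Tactic.Abel

/-!
# Čech cochains of a system of modules indexed by finite sets

A system assigns a module to every finite set of indices, with restriction maps along inclusions.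
The cochains of length `p` assign to a `p`-tuple an element of the module of its image, so that
length `0` is the augmentation.
-/

universe u

namespace Groth.Agent.CechCmp

open Finset

variable (R : Type u) [CommRing R] (ι : Type u)

/-- A system of modules indexed by finite sets of indices. -/
structure Sys where
  /-- The module of a finite set of indices. -/
  obj : Finset ι → ModuleCat.{u} R
  /-- Restriction along an inclusion. -/
  res : ∀ {s t : Finset ι}, s ⊆ t → (obj s →ₗ[R] obj t)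
  res_refl : ∀ (s : Finset ι) (x : obj s), res (Subset.refl s) x = x
  res_res : ∀ {s t v : Finset ι} (h : s ⊆ t) (h' : t ⊆ v) (x : obj s),
    res h' (res h x) = res (h.trans h') x

variable {R ι} [DecidableEq ι]

/-- The image of a tuple. -/
abbrev img {p : ℕ} (σ : Fin p → ι) : Finset ι := univ.image σ

lemma mem_img {p : ℕ} (σ : Fin p → ι) (k : Fin p) : σ k ∈ img σ := mem_image_of_mem σ (mem_univ k)

lemma img_comp_subset {p q : ℕ} (σ : Fin p → ι) (f : Fin q → Fin p) : img (σ ∘ f) ⊆ img σ := by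
  intro x hx
  obtain ⟨k, -, rfl⟩ := mem_image.1 hx
  exact mem_img σ _

lemma img_cons {p : ℕ} (i : ι) (σ : Fin p → ι) :
    img (Fin.cons i σ : Fin (p + 1) → ι) = insert i (img σ) := by
  ext x
  simp only [mem_image, mem_univ, true_and, mem_insert, Fin.exists_fin_succ, Fin.cons_zero,
    Fin.cons_succ]
  exact or_congr_left ⟨Eq.symm, Eq.symm⟩

namespace Sys

variable (S : Sys R ι)

/-- Cochains on `p`-tuples. -/
abbrev C (p : ℕ) : Type u := ∀ σ : Fin p → ι, S.obj (img σ)

lemma res_congr {p : ℕ} (c : S.C p) {σ τ : Fin p → ι} (h : σ = τ) {t : Finset ι}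
    (hσ : img σ ⊆ t) (hτ : img τ ⊆ t) : S.res hσ (c σ) = S.res hτ (c τ) := by
  subst h; rfl

/-- The alternating differential. -/
def d (p : ℕ) : S.C p →ₗ[R] S.C (p + 1) :=
  LinearMap.pi fun σ => ∑ k : Fin (p + 1),
    (-1 : R) ^ (k : ℕ) • (S.res (img_comp_subset σ k.succAbove) ∘ₗ LinearMap.proj (σ ∘ k.succAbove))

lemma d_apply (p : ℕ) (c : S.C p) (σ : Fin (p + 1) → ι) :
    S.d p c σ = ∑ k : Fin (p + 1),
      (-1 : R) ^ (k : ℕ) • S.res (img_comp_subset σ k.succAbove) (c (σ ∘ k.succAbove)) := by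
  simp only [d, LinearMap.pi_apply, LinearMap.sum_apply, LinearMap.smul_apply, LinearMap.comp_apply,
    LinearMap.proj_apply]

/-- The system of the sets containing a given index. -/
abbrev shift (i : ι) : Sys R ι where
  obj s := S.obj (insert i s)
  res h := S.res (insert_subset_insert i h)
  res_refl _ x := S.res_refl _ x
  res_res _ _ x := S.res_res _ _ x

/-- The cochain on the shifted system obtained by fixing the first index. -/
def shiftC (i : ι) (p : ℕ) : S.C (p + 1) →ₗ[R] (S.shift i).C p :=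
  LinearMap.pi fun σ => S.res (img_cons i σ).le ∘ₗ LinearMap.proj (Fin.cons i σ : Fin (p + 1) → ι)

lemma shiftC_apply (i : ι) (p : ℕ) (c : S.C (p + 1)) (σ : Fin p → ι) :
    S.shiftC i p c σ = S.res (img_cons i σ).le (c (Fin.cons i σ)) := rfl

lemma res_inj {s t : Finset ι} (h : s ⊆ t) (h' : t ⊆ s) (x y : S.obj s)
    (e : S.res h x = S.res h y) : x = y := by
  rw [← S.res_refl s x, ← S.res_refl s y, ← S.res_res h h', ← S.res_res h h', e]

/-- Splitting off the first index. -/
lemma shiftC_d (i : ι) (p : ℕ) (c : S.C (p + 1)) (σ : Fin (p + 1) → ι) :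
    S.shiftC i (p + 1) (S.d (p + 1) c) σ =
      S.res (subset_insert i (img σ)) (c σ) - (S.shift i).d p (S.shiftC i p c) σ := by
  rw [shiftC_apply, d_apply, map_sum, Fin.sum_univ_succ, d_apply, sub_eq_add_neg,
    ← Finset.sum_neg_distrib]
  congr 1
  · rw [Fin.val_zero, pow_zero, one_smul, S.res_res]
    refine S.res_congr c ?_ _ _
    ext k
    simp
  · refine Finset.sum_congr rfl fun k _ => ?_
    rw [Fin.val_succ, pow_succ, mul_neg_one, neg_smul, map_neg, map_smul]
    congr 2
    change _ = S.res (insert_subset_insert i (img_comp_subset σ k.succAbove))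
      (S.res (img_cons i (σ ∘ k.succAbove)).le (c (Fin.cons i (σ ∘ k.succAbove))))
    rw [S.res_res, S.res_res]
    refine S.res_congr c ?_ _ _
    ext l
    cases l using Fin.cases <;> simp

lemma d_eq_of_shiftC {p : ℕ} {c c' : S.C (p + 1)}
    (h : ∀ i σ, S.shiftC i p c σ = S.shiftC i p c' σ) : c = c' := by
  funext σ
  obtain ⟨i, τ, rfl⟩ : ∃ i τ, σ = Fin.cons i τ := ⟨σ 0, Fin.tail σ, (Fin.cons_self_tail σ).symm⟩
  exact S.res_inj (img_cons i τ).le (img_cons i τ).ge _ _ (h i τ)

/-- The differential squares to zero. -/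
theorem d_d (p : ℕ) : ∀ (S : Sys R ι) (c : S.C p), S.d (p + 1) (S.d p c) = 0 := by
  induction p with
  | zero =>
    intro S c
    refine S.d_eq_of_shiftC fun i σ => ?_
    have e : S.shiftC i 1 (0 : S.C 2) σ = 0 := by rw [map_zero]; rfl
    rw [e, shiftC_d, sub_eq_zero, d_apply, d_apply, Fin.sum_univ_one, Fin.sum_univ_one,
      Fin.val_zero, pow_zero, one_smul, one_smul, shiftC_apply]
    change _ = S.res (insert_subset_insert i (img_comp_subset σ (0 : Fin 1).succAbove))
      (S.res (img_cons i (σ ∘ (0 : Fin 1).succAbove)).le (S.d 0 c (Fin.cons i (σ ∘ (0 : Fin 1).succAbove))))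
    rw [d_apply, Fin.sum_univ_one, Fin.val_zero, pow_zero, one_smul, S.res_res, S.res_res, S.res_res]
    exact S.res_congr c (Subsingleton.elim _ _) _ _
  | succ p ih =>
    intro S c
    refine S.d_eq_of_shiftC fun i σ => ?_
    have e : S.shiftC i (p + 2) (0 : S.C (p + 3)) σ = 0 := by rw [map_zero]; rfl
    rw [e, shiftC_d, sub_eq_zero]
    have h : S.shiftC i (p + 1) (S.d (p + 1) c) =
        (fun τ => S.res (subset_insert i (img τ)) (c τ)) - (S.shift i).d p (S.shiftC i p c) :=
      funext fun τ => S.shiftC_d i p c τ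
    rw [h, map_sub, ih (S.shift i), sub_zero, d_apply, d_apply, map_sum]
    refine Finset.sum_congr rfl fun k _ => ?_
    rw [map_smul]
    congr 1
    change _ = S.res (insert_subset_insert i (img_comp_subset σ k.succAbove))
      (S.res (subset_insert i _) (c (σ ∘ k.succAbove)))
    rw [S.res_res, S.res_res]

/-- Cocycles in degree `p`. -/
abbrev Z (p : ℕ) : Submodule R (S.C (p + 1)) := LinearMap.ker (S.d (p + 1))

/-- Coboundaries in degree `p` (none in degree `0`). -/
def B : (p : ℕ) → Submodule R (S.C (p + 1))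
  | 0 => ⊥
  | p + 1 => LinearMap.range (S.d (p + 1))

lemma B_le_Z : ∀ p, S.B p ≤ S.Z p
  | 0 => bot_le
  | p + 1 => by
    rintro x ⟨y, rfl⟩
    exact LinearMap.mem_ker.2 (d_d (p + 1) S y)

/-- Čech cohomology. -/
abbrev H (p : ℕ) : Type u := ↥(S.Z p) ⧸ (S.B p).comap (S.Z p).subtype

/-- The class of a cocycle. -/
abbrev cls (p : ℕ) : S.Z p →ₗ[R] S.H p := Submodule.mkQ _

lemma cls_eq_zero_iff {p : ℕ} (z : S.Z p) : S.cls p z = 0 ↔ (z : S.C (p + 1)) ∈ S.B p :=
  (Submodule.Quotient.mk_eq_zero _).trans Iff.rfl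

/-- A homotopy on the system: `h` inverts the diagonal restriction up to the projection `e`. -/
structure Homotopy (e : ∀ s, S.obj s →ₗ[R] S.obj s) where
  /-- The components. -/
  h : ∀ s, (∀ i, S.obj (insert i s)) →ₗ[R] S.obj s
  nat : ∀ {s t : Finset ι} (hst : s ⊆ t) (y : ∀ i, S.obj (insert i s)), s.Nonempty →
    h t (fun i => S.res (insert_subset_insert i hst) (y i)) = S.res hst (h s y)
  diag : ∀ (s : Finset ι) (x : S.obj s), s.Nonempty →
    h s (fun i => S.res (subset_insert i s) x) = e s x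

variable {S} {e : ∀ s, S.obj s →ₗ[R] S.obj s}

/-- The homotopy on cochains. -/
def Homotopy.op (hh : S.Homotopy e) (p : ℕ) : S.C (p + 1) →ₗ[R] S.C p :=
  LinearMap.pi fun σ => hh.h (img σ) ∘ₗ
    LinearMap.pi fun i => LinearMap.proj σ ∘ₗ S.shiftC i p

lemma Homotopy.op_apply (hh : S.Homotopy e) (p : ℕ) (c : S.C (p + 1)) (σ : Fin p → ι) :
    hh.op p c σ = hh.h (img σ) (fun i => S.shiftC i p c σ) := rfl

lemma Homotopy.d_op_add (hh : S.Homotopy e) (p : ℕ) (c : S.C (p + 2)) (σ : Fin (p + 2) → ι) :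
    S.d (p + 1) (hh.op (p + 1) c) σ + hh.op (p + 2) (S.d (p + 2) c) σ = e (img σ) (c σ) := by
  rw [hh.op_apply, funext fun i => S.shiftC_d i (p + 1) c σ]
  change _ + hh.h (img σ) ((fun i => S.res (subset_insert i (img σ)) (c σ)) -
    fun i => (S.shift i).d (p + 1) (S.shiftC i (p + 1) c) σ) = _
  rw [map_sub, hh.diag _ _ ⟨_, mem_img σ 0⟩]
  have : hh.h (img σ) (fun i => (S.shift i).d (p + 1) (S.shiftC i (p + 1) c) σ) =
      S.d (p + 1) (hh.op (p + 1) c) σ := by
    rw [d_apply]
    have e1 : (fun i => (S.shift i).d (p + 1) (S.shiftC i (p + 1) c) σ) =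
        ∑ k : Fin (p + 2), (-1 : R) ^ (k : ℕ) • fun i =>
          S.res (insert_subset_insert i (img_comp_subset σ k.succAbove))
            (S.shiftC i (p + 1) c (σ ∘ k.succAbove)) := by
      funext i
      rw [Finset.sum_apply, d_apply]
      rfl
    rw [e1, map_sum]
    refine Finset.sum_congr rfl fun k _ => ?_
    rw [map_smul, hh.nat _ _ ⟨_, mem_img _ 0⟩, hh.op_apply]
  rw [this]
  abel

/-- A full homotopy kills positive degree cohomology. -/
theorem mem_B_of_homotopy (hh : S.Homotopy fun _ => LinearMap.id) (p : ℕ) (z : S.Z (p + 1)) :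
    (z : S.C (p + 2)) ∈ S.B (p + 1) := by
  refine ⟨hh.op (p + 1) z, funext fun σ => ?_⟩
  have h := hh.d_op_add p z σ
  rw [LinearMap.mem_ker.1 z.2, map_zero, Pi.zero_apply, add_zero] at h
  exact h

theorem subsingleton_H_of_homotopy (hh : S.Homotopy fun _ => LinearMap.id) (p : ℕ) :
    Subsingleton (S.H (p + 1)) := by
  refine subsingleton_of_forall_eq 0 fun x => ?_
  obtain ⟨z, rfl⟩ := Submodule.mkQ_surjective _ x
  exact (S.cls_eq_zero_iff z).2 (mem_B_of_homotopy hh p z)

/-- Cohomology is finite when a homotopy leaves a finite complementary piece. -/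
theorem finite_H_of_homotopy [IsNoetherianRing R] [Finite ι] (hh : S.Homotopy e)
    (hfin : ∀ s : Finset ι, s.Nonempty →
      Module.Finite R (LinearMap.range (LinearMap.id - e s))) (p : ℕ) :
    Module.Finite R (S.H (p + 1)) := by
  let π : S.C (p + 2) →ₗ[R] S.C (p + 2) :=
    LinearMap.pi fun σ => (LinearMap.id - e (img σ)) ∘ₗ LinearMap.proj σ
  haveI : ∀ σ : Fin (p + 2) → ι, Module.Finite R (LinearMap.range (LinearMap.id - e (img σ))) :=
    fun σ => hfin _ ⟨_, mem_img σ 0⟩
  let K : Submodule R (S.C (p + 2)) :=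
    Submodule.pi Set.univ fun σ => LinearMap.range (LinearMap.id - e (img σ))
  haveI : IsNoetherian R K := by
    let f : (∀ σ : Fin (p + 2) → ι, LinearMap.range (LinearMap.id - e (img σ))) →ₗ[R] S.C (p + 2) :=
      LinearMap.pi fun σ => (Submodule.subtype _) ∘ₗ LinearMap.proj σ
    have hK : K ≤ LinearMap.range f := fun c hc =>
      ⟨fun σ => ⟨c σ, hc σ trivial⟩, rfl⟩
    exact isNoetherian_of_le hK
  let g : ↥(K ⊓ S.Z (p + 1)) →ₗ[R] S.H (p + 1) :=
    S.cls (p + 1) ∘ₗ Submodule.inclusion inf_le_right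
  haveI : IsNoetherian R ↥(K ⊓ S.Z (p + 1)) := isNoetherian_of_le inf_le_left
  refine Module.Finite.of_surjective g fun x => ?_
  obtain ⟨z, rfl⟩ := Submodule.mkQ_surjective _ x
  let y : S.C (p + 2) := (z : S.C (p + 2)) - S.d (p + 1) (hh.op (p + 1) z)
  have hy : y = π z := by
    funext σ
    have h := hh.d_op_add p z σ
    rw [LinearMap.mem_ker.1 z.2, map_zero, Pi.zero_apply, add_zero] at h
    simp only [y, π, Pi.sub_apply, h, LinearMap.pi_apply, LinearMap.comp_apply, LinearMap.proj_apply,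
      LinearMap.sub_apply, LinearMap.id_apply]
  have hyK : y ∈ K := fun σ _ => hy ▸ LinearMap.mem_range_self _ _
  have hyZ : y ∈ S.Z (p + 1) := by
    refine Submodule.sub_mem _ z.2 (LinearMap.mem_ker.2 ?_)
    exact d_d (p + 1) S _
  refine ⟨⟨y, hyK, hyZ⟩, ?_⟩
  rw [← sub_eq_zero]
  change S.cls (p + 1) _ - S.cls (p + 1) z = 0
  rw [← map_sub, cls_eq_zero_iff]
  refine ⟨-hh.op (p + 1) z, ?_⟩
  simp [y]

end Sys

end Groth.Agent.CechCmp
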